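import Groth.Agent.H14.GenFam.Glue

/-!
A morphism of quasi-coherent modules surjective at a chart is surjective.
-/

set_option autoImplicit false
set_option backward.isDefEq.respectTransparency false
set_option backward.isDefEq.respectTransparency.types false
set_option linter.style.haveILetI false

universe u

open CategoryTheory CategoryTheory.Limits AlgebraicGeometry Opposite TensorProduct
open StMod (sch bmap)
open Groth.Agent.Lib.AlgStack
open Groth.Agent.H14.ModDesc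
open Groth.Agent.H14.GenFam

namespace Groth.Agent.H14.QuotHopf

variable {S : Scheme.{u}} {𝒳 : AlgSt.Cat S}

/-- A morphism surjective at a chart is surjective on affine objects. -/
theorem isSurj_of_chart (C : Chart 𝒳) {F G : StMod.QCoh 𝒳} (u : F ⟶ G)
    (h : Function.Surjective ((u.hom.app C.x).app ⊤)) : StMod.Mod.IsSurj u.hom := by
  intro o ho
  obtain ⟨n, D, hD⟩ := C.cover o ho
  let : ∀ j, Algebra Γ(sch 𝒳 o, ⊤) Γ(sch 𝒳 (D.E j), ⊤) := fun j => (bmap 𝒳 (D.e j)).appTop.hom.toAlgebra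
  have : ∀ j, IsAffine (sch 𝒳 (D.E j)) := D.aff
  have : ∀ j, Module.Flat Γ(sch 𝒳 o, ⊤) Γ(sch 𝒳 (D.E j), ⊤) := fun j =>
    have := D.flat j
    flat_appTop (bmap 𝒳 (D.e j))
  let f : Γ(F.obj.obj o, ⊤) →ₗ[Γ(sch 𝒳 o, ⊤)] Γ(G.obj.obj o, ⊤) :=
    { toFun := fun s => (u.hom.app o).app ⊤ s
      map_add' := map_add ((u.hom.app o).app ⊤).hom
      map_smul' := fun r s => Scheme.Modules.Hom.app_smul (u.hom.app o) r s }
  have hsurj : ∀ j, Function.Surjective ((u.hom.app (D.E j)).app ⊤) := fun j y => by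
    refine bc_induction (isBC_mapHom G (hD j).some)
      (P := fun y => ∃ x, (u.hom.app (D.E j)).app ⊤ x = y) ⟨0, map_zero _⟩
      (fun a b ⟨x, hx⟩ ⟨x', hx'⟩ => ⟨x + x', by
        rw [← hx, ← hx']; exact map_add ((u.hom.app (D.E j)).app ⊤).hom x x'⟩) (fun c m => ?_) y
    obtain ⟨s, hs⟩ := h m
    refine ⟨c • F.obj.mapTop (hD j).some s, (Scheme.Modules.Hom.app_smul (u.hom.app (D.E j)) c _).trans ?_⟩
    exact congrArg (c • ·) ((StMod.Mod.mapTop_app u.hom (hD j).some s).symm.trans (congrArg _ hs))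
  refine surjective_of_lTensor (fun j => Γ(sch 𝒳 (D.E j), ⊤))
    (jointlySurj_appTop (fun j => bmap 𝒳 (D.e j)) (fun j => rfl) D.surj) f fun j t => ?_
  obtain ⟨hF, hFb⟩ := (isBC_iff rfl).1 (isBC_mapHom F (D.e j))
  obtain ⟨hG, hGb⟩ := (isBC_iff rfl).1 (isBC_mapHom G (D.e j))
  obtain ⟨x, hx⟩ := hsurj j (bcMap _ _ (mapHom G.obj (D.e j)) hG t)
  obtain ⟨t', rfl⟩ := hFb.surjective x
  refine ⟨t', hGb.injective (Eq.trans ?_ hx)⟩
  clear hx
  induction t' with
  | zero => rw [map_zero, map_zero, map_zero, map_zero]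
  | tmul c s =>
    rw [LinearMap.lTensor_tmul, bcMap_tmul, bcMap_tmul]
    refine Eq.trans ?_ (Scheme.Modules.Hom.app_smul (u.hom.app (D.E j)) c _).symm
    exact congrArg (c • ·) (StMod.Mod.mapTop_app u.hom (D.e j) s)
  | add a b ha hb =>
    rw [map_add, map_add, map_add, ha, hb]
    exact (map_add ((u.hom.app (D.E j)).app ⊤).hom _ _).symm

end Groth.Agent.H14.QuotHopf
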