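import Groth.Agent.H14.QuotGood.Ring
import Groth.Agent.H14.ModDesc.Alg

/-!
Comodules from transport maps, and base change along the projection of a product with the group.
-/

set_option autoImplicit false
set_option backward.isDefEq.respectTransparency false
set_option backward.isDefEq.respectTransparency.types false
set_option linter.style.haveILetI false

universe u

open CategoryTheory MonObj GrpObj TensorProduct
open Algebra.TensorProduct (includeLeft includeRight)
open Groth.Agent.H14.ModDesc

namespace Groth.Agent.H14.QuotHopf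

variable {R : Type u} [CommRing R]

section Tmul

variable {A B M : Type u} [CommRing A] [Algebra R A] [CommRing B] [Algebra R B]
  [AddCommGroup M] [Module R M] [Module B M] [IsScalarTower R B M]

/-- The product `(a ⊗ b) • m = a ⊗ (b • m)`. -/
noncomputable def tm (t : A ⊗[R] B) (m : M) : A ⊗[R] M :=
  (((LinearMap.toSpanSingleton B M m).restrictScalars R).lTensor A) t

theorem tm_tmul (a : A) (b : B) (m : M) : tm (R := R) (a ⊗ₜ b) m = a ⊗ₜ (b • m) := rfl

theorem tm_add_left (t t' : A ⊗[R] B) (m : M) : tm (t + t') m = tm t m + tm t' m := map_add _ _ _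

theorem tm_zero_left (m : M) : tm (0 : A ⊗[R] B) m = 0 := map_zero _

theorem tm_add_right (t : A ⊗[R] B) (m m' : M) : tm t (m + m') = tm t m + tm t m' := by
  induction t with
  | zero => simp [tm_zero_left]
  | tmul a b => simp [tm_tmul, smul_add, tmul_add]
  | add x y hx hy => simp only [tm_add_left, hx, hy]; abel

theorem tm_zero_right (t : A ⊗[R] B) : tm t (0 : M) = 0 := by
  induction t with
  | zero => simp [tm_zero_left]
  | tmul a b => simp [tm_tmul]
  | add x y hx hy => simp [tm_add_left, hx, hy]

theorem tm_smul_right (t : A ⊗[R] B) (b : B) (m : M) :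
    tm t (b • m) = tm ((includeRight : B →ₐ[R] A ⊗[R] B) b * t) m := by
  induction t with
  | zero => simp [tm_zero_left]
  | tmul a b' => simp [tm_tmul, smul_smul, mul_comm]
  | add x y hx hy => simp only [tm_add_left, mul_add, hx, hy]

/-- The action of `A ⊗ B` on `A ⊗ M`. -/
noncomputable def act2 : A ⊗[R] B →ₗ[R] A ⊗[R] M →ₗ[R] A ⊗[R] M :=
  TensorProduct.map₂ (LinearMap.mul R A) (Algebra.lsmul R R M : B →ₐ[R] Module.End R M).toLinearMap

@[simp] theorem act2_tmul (a : A) (b : B) (a' : A) (m : M) :
    act2 (a ⊗ₜ[R] b) (a' ⊗ₜ[R] m) = (a * a') ⊗ₜ (b • m) := by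
  simp [act2]

theorem act2_tm (t t' : A ⊗[R] B) (m : M) : act2 t (tm t' m) = tm (t * t') m := by
  induction t with
  | zero => simp [tm_zero_left]
  | add x y hx hy => simp only [map_add, LinearMap.add_apply, add_mul, tm_add_left, hx, hy]
  | tmul a b =>
    induction t' with
    | zero => simp [tm_zero_left]
    | add x y hx hy => simp only [map_add, mul_add, tm_add_left, hx, hy]
    | tmul a' b' => simp [tm_tmul, mul_smul]

theorem exists_tensorBC {B₀ C' N : Type u} [CommRing B₀] [Module B₀ M] [CommRing C'] [AddCommGroup N] [Module C' N]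
    (γ : B₀ ≃+* B) (hγ : ∀ (b : B₀) (m : M), b • m = γ b • m) {φ : B₀ →+* C'} (G : C' ≃+* A ⊗[R] B)
    (hG : ∀ b, G (φ b) = (includeRight : B →ₐ[R] A ⊗[R] B) (γ b)) {g : M →+ N} (hg : IsBC φ g) :
    ∃ e : N ≃+ A ⊗[R] M, ∀ c m, e (c • g m) = tm (G c) m := by
  letI : Algebra B₀ C' := φ.toAlgebra
  obtain ⟨hs, hb⟩ := (isBC_iff rfl).1 hg
  let e₀ : C' ⊗[B₀] M ≃+ N := AddEquiv.ofBijective (bcMap B₀ C' g hs) hb
  let r : C' ⊗[B₀] M →+ A ⊗[R] M := TensorProduct.liftAddHom
    { toFun := fun c => AddMonoidHom.mk' (fun m => tm (G c) m) (tm_add_right _)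
      map_zero' := AddMonoidHom.ext fun m => by
        show tm (G 0) m = 0
        rw [map_zero, tm_zero_left]
      map_add' := fun c c' => AddMonoidHom.ext fun m => by
        show tm (G (c + c')) m = tm (G c) m + tm (G c') m
        rw [map_add, tm_add_left] }
    (fun b c m => by
      show tm (G (φ b * c)) m = tm (G c) (b • m)
      rw [map_mul, hG, hγ, tm_smul_right])
  have hr : ∀ c m, r (c ⊗ₜ m) = tm (G c) m := fun _ _ => rfl
  let q : A ⊗[R] M →+ C' ⊗[B₀] M := TensorProduct.liftAddHom
    { toFun := fun a => AddMonoidHom.mk' (fun m => G.symm (a ⊗ₜ[R] (1 : B)) ⊗ₜ[B₀] m) (fun _ _ => tmul_add _ _ _)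
      map_zero' := AddMonoidHom.ext fun m => by simp
      map_add' := fun a a' => AddMonoidHom.ext fun m => by simp [add_tmul] }
    (fun r₀ a m => by
      show G.symm ((r₀ • a) ⊗ₜ[R] (1 : B)) ⊗ₜ[B₀] m = G.symm (a ⊗ₜ[R] (1 : B)) ⊗ₜ[B₀] (r₀ • m)
      have h1 : r₀ • m = γ.symm (algebraMap R B r₀) • m := by
        rw [hγ, RingEquiv.apply_symm_apply, algebraMap_smul]
      rw [h1, tmul_smul, smul_tmul']
      congr 1
      apply G.injective
      rw [RingEquiv.apply_symm_apply, Algebra.smul_def]
      show _ = G (φ _ * _)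
      rw [map_mul, hG, RingEquiv.apply_symm_apply, RingEquiv.apply_symm_apply]
      simp [smul_tmul', Algebra.algebraMap_eq_smul_one, tmul_smul])
  have hq : ∀ a m, q (a ⊗ₜ m) = G.symm (a ⊗ₜ[R] (1 : B)) ⊗ₜ[B₀] m := fun _ _ => rfl
  have h1 : ∀ x, q (r x) = x := fun x => by
    induction x with
    | zero => simp
    | add x y hx hy => simp only [map_add, hx, hy]
    | tmul c m =>
      rw [hr]
      obtain ⟨t, rfl⟩ : ∃ t, G.symm t = c := ⟨G c, G.symm_apply_apply c⟩
      rw [RingEquiv.apply_symm_apply]
      induction t with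
      | zero => simp [tm_zero_left]
      | add x y hx hy => simp only [tm_add_left, map_add, hx, hy, add_tmul]
      | tmul a b =>
        rw [tm_tmul, hq]
        have e : b • m = γ.symm b • m := by rw [hγ, RingEquiv.apply_symm_apply]
        rw [e, tmul_smul, smul_tmul']
        congr 1
        apply G.injective
        rw [RingEquiv.apply_symm_apply, Algebra.smul_def]
        show G (φ _ * _) = _
        rw [map_mul, hG, RingEquiv.apply_symm_apply, RingEquiv.apply_symm_apply]
        simp
  have h2 : ∀ y, r (q y) = y := fun y => by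
    induction y with
    | zero => simp
    | add x y hx hy => simp only [map_add, hx, hy]
    | tmul a m => rw [hq, hr, RingEquiv.apply_symm_apply, tm_tmul, one_smul]
  refine ⟨e₀.symm.trans
    { toFun := r, invFun := q, left_inv := h1, right_inv := h2, map_add' := map_add r }, fun c m => ?_⟩
  show r (e₀.symm (c • g m)) = _
  have he : c • g m = e₀ (c ⊗ₜ m) := (bcMap_tmul g hs c m).symm
  rw [he, AddEquiv.symm_apply_apply, hr]

end Tmul

section Hopf

open CartesianMonoidalCategory MonoidalCategory CoactBr

variable (A : Type u) [CommRing A] [HopfAlgebra R A]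

theorem antipode_antipode (a : A) :
    HopfAlgebra.antipodeAlgHom R A (HopfAlgebra.antipodeAlgHom R A a) = a := by
  have h : pt (((AlgHom.id R A).comp (HopfAlgebra.antipodeAlgHom R A)).comp (HopfAlgebra.antipodeAlgHom R A)) =
      pt (AlgHom.id R A) := by
    rw [← pt_inv, ← pt_inv, _root_.inv_inv]
  exact AlgHom.congr_fun (pt_injective h) a

theorem comul_antipode (a : A) :
    CoalgebraStruct.comul (R := R) (HopfAlgebra.antipodeAlgHom R A a) =
      Algebra.TensorProduct.lift ((includeRight : A →ₐ[R] A ⊗[R] A).comp (HopfAlgebra.antipodeAlgHom R A))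
        ((includeLeft : A →ₐ[R] A ⊗[R] A).comp (HopfAlgebra.antipodeAlgHom R A)) (fun _ _ => .all _ _)
        (CoalgebraStruct.comul (R := R) a) := by
  have hid : Algebra.TensorProduct.lift (includeLeft : A →ₐ[R] A ⊗[R] A) includeRight (fun _ _ => .all _ _) =
      AlgHom.id R (A ⊗[R] A) := Algebra.TensorProduct.ext' fun a b => by simp
  have h : pt (((Algebra.TensorProduct.lift (includeLeft : A →ₐ[R] A ⊗[R] A) includeRight fun _ _ => .all _ _).comp
      (Bialgebra.comulAlgHom R A)).comp (HopfAlgebra.antipodeAlgHom R A)) =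
      pt ((Algebra.TensorProduct.lift ((includeRight : A →ₐ[R] A ⊗[R] A).comp (HopfAlgebra.antipodeAlgHom R A))
        ((includeLeft : A →ₐ[R] A ⊗[R] A).comp (HopfAlgebra.antipodeAlgHom R A)) fun _ _ => .all _ _).comp
          (Bialgebra.comulAlgHom R A)) := by
    rw [← pt_inv, ← pt_mul_pt, ← pt_mul_pt, ← pt_inv, ← pt_inv, _root_.mul_inv_rev]
  rw [hid] at h
  exact AlgHom.congr_fun (pt_injective h) a

variable {A} {M : Type u} [AddCommGroup M] [Module R M]

/-- The change of side. -/
noncomputable def flipS : A ⊗[R] M →ₗ[R] M ⊗[R] A :=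
  (TensorProduct.comm R A M).toLinearMap ∘ₗ (HopfAlgebraStruct.antipode (R := R) (A := A)).rTensor M

theorem flipS_tmul (a : A) (m : M) :
    flipS (R := R) (a ⊗ₜ m) = m ⊗ₜ HopfAlgebra.antipodeAlgHom R A a := rfl

theorem flipS_injective : Function.Injective (flipS (R := R) (A := A) (M := M)) := by
  let back : M ⊗[R] A →ₗ[R] A ⊗[R] M :=
    (HopfAlgebraStruct.antipode (R := R) (A := A)).rTensor M ∘ₗ (TensorProduct.comm R M A).toLinearMap
  have : ∀ x, back (flipS x) = x := fun x => by
    induction x with
    | zero => simp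
    | add x y hx hy => simp only [map_add, hx, hy]
    | tmul a m =>
      show (HopfAlgebra.antipodeAlgHom R A (HopfAlgebra.antipodeAlgHom R A a)) ⊗ₜ[R] m = _
      rw [antipode_antipode]
  exact Function.LeftInverse.injective this

/-- A left coaction gives a comodule. -/
@[instance_reducible] noncomputable def comodOfLeft (φ : M →ₗ[R] A ⊗[R] M)
    (hco : ∀ m, φ.lTensor A (φ m) =
      TensorProduct.assoc R A A M ((CoalgebraStruct.comul (R := R) (A := A)).rTensor M (φ m)))
    (hcu : ∀ m, (CoalgebraStruct.counit (R := R) (A := A)).rTensor M (φ m) = 1 ⊗ₜ m) :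
    HopfRep.Comod R A M where
  coact := flipS ∘ₗ φ
  coassoc := LinearMap.ext fun m => by
    let L : A ⊗[R] (A ⊗[R] M) →ₗ[R] M ⊗[R] (A ⊗[R] A) :=
      (TensorProduct.assoc R M A A).toLinearMap ∘ₗ flipS ∘ₗ flipS.lTensor A
    have h1 : ∀ x : A ⊗[R] M, TensorProduct.assoc R M A A ((flipS ∘ₗ φ).rTensor A (flipS x)) =
        L (φ.lTensor A x) := fun x => by
      induction x with
      | zero => simp
      | add x y hx hy => simp only [map_add, hx, hy]
      | tmul a n => simp [L, flipS_tmul]
    have h2 : ∀ x : A ⊗[R] M, (CoalgebraStruct.comul (R := R) (A := A)).lTensor M (flipS x) =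
        L (TensorProduct.assoc R A A M ((CoalgebraStruct.comul (R := R) (A := A)).rTensor M x)) := fun x => by
      induction x with
      | zero => simp
      | add x y hx hy => simp only [map_add, hx, hy]
      | tmul a n =>
        rw [flipS_tmul, LinearMap.lTensor_tmul, comul_antipode, LinearMap.rTensor_tmul]
        generalize CoalgebraStruct.comul (R := R) (A := A) a = t
        induction t with
        | zero => simp
        | add x y hx hy => simp only [add_tmul, map_add, tmul_add, hx, hy]
        | tmul a₁ a₂ => simp [L, flipS_tmul]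
    show TensorProduct.assoc R M A A ((flipS ∘ₗ φ).rTensor A (flipS (φ m))) = _
    rw [h1, hco, ← h2]
    rfl
  counit_comp := LinearMap.ext fun m => by
    have h : ∀ x : A ⊗[R] M, (CoalgebraStruct.counit (R := R) (A := A)).lTensor M (flipS x) =
        TensorProduct.comm R R M ((CoalgebraStruct.counit (R := R) (A := A)).rTensor M x) := fun x => by
      induction x with
      | zero => simp
      | add x y hx hy => simp only [map_add, hx, hy]
      | tmul a n =>
        rw [flipS_tmul, LinearMap.lTensor_tmul, LinearMap.rTensor_tmul, TensorProduct.comm_tmul]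
        congr 1
        exact HopfAlgebra.counit_antipode a
    show (CoalgebraStruct.counit (R := R) (A := A)).lTensor M (flipS (φ m)) = _
    rw [h, hcu]
    rfl

end Hopf

end Groth.Agent.H14.QuotHopf
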