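import Groth.Agent.H14.QuotHopf.OfComod

/-!
The cocycle condition for the comparison maps of a relative Hopf module.
-/

set_option autoImplicit false
set_option backward.isDefEq.respectTransparency false
set_option backward.isDefEq.respectTransparency.types false
set_option linter.style.haveILetI false

universe u

open CategoryTheory MonoidalCategory CartesianMonoidalCategory MonObj AlgebraicGeometry TensorProduct
open Algebra.TensorProduct (includeLeft includeRight)
open StMod (sch bmap)
open AlgSt (QuotObj QuotSt)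
open CoactBr
open Groth.Agent.Lib.QuotSt
open Groth.Agent.H14.QuotGood
open Groth.Agent.H14.ModDesc
open Groth.Agent.H14.GenFam (Chart Ext isBC_mk sl_ext bc_induction bc_ext bc_extend bmap_hom_comp)

namespace Groth.Agent.H14.QuotHopf

variable {R A B : Type u} [CommRing R] [CommRing A] [CommRing B] [HopfAlgebra R A] [Module.Flat R A]
  [Algebra R B] [HopfRep.Comod R A B] [GLin.IsCoactAlg R A B]
  {M : Type u} [AddCommGroup M] [Module R M] [Module B M] [IsScalarTower R B M]
  [HopfRep.Comod R A M] [TameAct.IsHopfMod R A B M]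
  (h𝒳 : FibCat.IsFibGrpd (QS R A B).p)

theorem kUnit_id_smul (r : Γ((sp R B).left, ⊤)) (m : HM B M) :
    (show Γ(sch (QS R A B) (xo R A B), ⊤) from r) • um R A B M (𝟙 (xo R A B)) m =
      um R A B M (𝟙 (xo R A B)) (r • m) := by
  refine Eq.trans ?_ ((isBC_mk (bmap (QS R A B) (𝟙 (xo R A B))).appTop.hom (HM B M)).sl r m).symm
  refine congrArg (fun k : Γ(sch (QS R A B) (xo R A B), ⊤) => k • um R A B M (𝟙 (xo R A B)) m) ?_
  show _ = (bmap (QS R A B) (𝟙 (xo R A B))).appTop.hom (show Γ(sch (QS R A B) (xo R A B), ⊤) from r)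
  rw [StMod.bmap_id, Scheme.Hom.id_appTop]
  rfl

theorem resK_pair_id (m : HM B M) :
    resK (C := QC R A B) (pairMap h𝒳 (𝟙 (xo R A B)) (𝟙 (xo R A B))) (pairMap_p h𝒳 _ _) (th0 m) =
      um R A B M (𝟙 (xo R A B)) m := by
  obtain ⟨s, sb, sp', sq⟩ := exists_pair (K := Scheme.fppfPrecoverage) (action R A B)
    (za := 𝟙 (sp R B)) (zb := 𝟙 (sp R B)) (Act.one_smul _ _) (Act.one_smul _ _)
  let s' : xo R A B ⟶ wo R A B := s
  have hsp : s' ≫ po R A B = 𝟙 _ := hom_ext_of_point (by
    refine (congrArg point (show s' ≫ po R A B = toX Scheme.fppfPrecoverage (action R A B) 1 (𝟙 _) _ from sp')).trans ?_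
    rw [point_toX]
    exact (Category.comp_id _).symm)
  have hsq : s' ≫ qo R A B = 𝟙 _ := hom_ext_of_point (by
    refine (congrArg point (show s' ≫ qo R A B = toX Scheme.fppfPrecoverage (action R A B) 1 (𝟙 _) _ from sq)).trans ?_
    rw [point_toX]
    exact (Category.comp_id _).symm)
  let εl : A ⊗[R] B →ₐ[R] B := Algebra.TensorProduct.lift ((Algebra.ofId R B).comp (Bialgebra.counitAlgHom R A))
    (AlgHom.id R B) fun _ _ => .all _ _
  have hs : ∀ c : Γ((sp R A ⊗ sp R B).left, ⊤), gam R B (s.base.left.appTop.hom c) = εl (gam2 R A B c) := fun c => by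
    have e : s.base = pt εl ≫ pr R A B := by
      rw [sb, inv_one, _root_.one_mul, pr, comp_lift, ← pt_comp, ← pt_comp,
        Algebra.TensorProduct.lift_comp_includeLeft, Algebra.TensorProduct.lift_comp_includeRight', ← one_eq_pt,
        pt_id]
    rw [e, Over.comp_left, Scheme.Hom.comp_appTop]
    exact gam_pt εl _
  let χ : A ⊗[R] HM B M →ₗ[R] HM B M :=
    TensorProduct.lift ((LinearMap.lsmul R (HM B M)).comp (CoalgebraStruct.counit (R := R) (A := A)))
  have key : ∀ ξ : EM R A B M (po R A B),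
      resK (C := QC R A B) s' hsp ξ = um R A B M (𝟙 (xo R A B)) (χ (eE ξ)) := fun ξ => by
    refine bc_induction (isBC_mk (bmap (QS R A B) (po R A B)).appTop.hom (HM B M))
      (P := fun ξ => resK (C := QC R A B) s' hsp ξ = um R A B M (𝟙 (xo R A B)) (χ (eE ξ))) ?_
      (fun x y hx hy => by simp only [map_add, hx, hy]) (fun c m => ?_) ξ
    · simp
    · show resK (C := QC R A B) s' hsp (c • um R A B M (po R A B) m) = _
      rw [isSL_resK (C := QC R A B) s' hsp, resK_unit]
      refine (kUnit_id_smul (R := R) (A := A) _ m).trans (congrArg _ ?_)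
      refine Eq.trans ?_ (congrArg χ (eE_smul c m)).symm
      show gam R B (s.base.left.appTop.hom c) • m = _
      rw [hs]
      generalize gam2 R A B c = t
      induction t with
      | zero => simp [tm_zero_left, zero_smul]
      | add x y hx hy => simp only [map_add, add_smul, tm_add_left, hx, hy]
      | tmul a b => simp [εl, χ, tm_tmul, mul_smul, algebraMap_smul]
  rw [resK_congr (C := QC R A B) (pairMap_eq h𝒳 hsp hsq).symm _ hsp, key, eE_th0]
  refine congrArg _ ?_
  apply (TensorProduct.lid R (HM B M)).symm.injective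
  show (1 : R) ⊗ₜ χ _ = (1 : R) ⊗ₜ m
  rw [← coleft_counit (R := R) (A := A) m]
  generalize coleft R A m = t
  induction t with
  | zero => simp
  | add x y hx hy => simp only [map_add, tmul_add, hx, hy]
  | tmul a n => simp [χ, smul_tmul']

theorem kapv_self {z : (QS R A B).obj} [IsAffine (sch (QS R A B) z)] (a : z ⟶ xo R A B) (v : EM R A B M a) :
    kapv h𝒳 a a v = v := by
  refine LinearMap.congr_fun (bc_ext (isBC_mk (bmap (QS R A B) a).appTop.hom (HM B M)) (G := LinearMap.id)
    (s := Set.univ) Submodule.span_univ fun m _ => ?_) v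
  show kapv h𝒳 a a (um R A B M a m) = um R A B M a m
  rw [kapv_unit h𝒳 (a ≫ pairMap h𝒳 (𝟙 _) (𝟙 _)) (by rw [Category.assoc, pairMap_p, Category.comp_id])
      (by rw [Category.assoc, pairMap_q, Category.comp_id]),
    resK_comp (C := QC R A B) a (pairMap h𝒳 (𝟙 _) (𝟙 _)) (pairMap_p h𝒳 _ _) (Category.comp_id a), resK_pair_id,
    resK_unit]

set_option maxHeartbeats 2000000 in
theorem kapv_tri : ∃ (w2 : (QS R A B).obj) (_ : IsAffine (sch (QS R A B) w2)) (p₁ p₂ p₃ : w2 ⟶ xo R A B),
    (∀ {o : (QS R A B).obj} (a b c : o ⟶ xo R A B), ∃ f : o ⟶ w2, f ≫ p₁ = a ∧ f ≫ p₂ = b ∧ f ≫ p₃ = c) ∧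
    ∀ m : HM B M, kapv h𝒳 p₁ p₂ (kapv h𝒳 p₂ p₃ (um R A B M p₃ m)) = kapv h𝒳 p₁ p₃ (um R A B M p₃ m) := by
  obtain ⟨e, d₁, d, eb, d₁b, db, h₁, h₂, h₃, htri⟩ :=
    exists_tri (K := Scheme.fppfPrecoverage) (action R A B) h𝒳
  let w2 : (QS R A B).obj := trivObj Scheme.fppfPrecoverage (action R A B)
    ((sp R A ◁ (action R A B).act) ≫ (action R A B).act)
  let C2 := Γ((sp R A ⊗ (sp R A ⊗ sp R B)).left, ⊤)
  haveI : IsAffine (sp R (A ⊗[R] (A ⊗[R] B))).left :=
    inferInstanceAs (IsAffine (Spec (CommRingCat.of (A ⊗[R] (A ⊗[R] B)))))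
  haveI hw2 : IsAffine (sch (QS R A B) w2) := IsAffine.of_isIso (inv (pr3 R A B).left)
  let e' : w2 ⟶ wo R A B := e
  let d₁' : w2 ⟶ wo R A B := d₁
  let d' : w2 ⟶ wo R A B := d
  let p₁ : w2 ⟶ xo R A B := e' ≫ po R A B
  let p₂ : w2 ⟶ xo R A B := e' ≫ qo R A B
  let p₃ : w2 ⟶ xo R A B := d' ≫ qo R A B
  refine ⟨w2, hw2, p₁, p₂, p₃, fun a b c => htri a b c, fun m => ?_⟩
  let G : C2 ≃+* (A ⊗[R] A) ⊗[R] B :=
    (gam3 R A B).trans (Algebra.TensorProduct.assoc R R R A A B).symm.toRingEquiv
  have hGe : ∀ c : Γ((sp R A ⊗ sp R B).left, ⊤), G (e.base.left.appTop.hom c) =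
      (Algebra.TensorProduct.assoc R R R A A B).symm ((1 : A) ⊗ₜ gam2 R A B c) := fun c => by
    rw [eb]
    exact congrArg (Algebra.TensorProduct.assoc R R R A A B).symm
      (gam3_comp (m := snd (sp R A) (sp R A ⊗ sp R B)) pr3_snd c)
  have hGd₁ : ∀ c : Γ((sp R A ⊗ sp R B).left, ⊤), G (d₁.base.left.appTop.hom c) =
      (Algebra.TensorProduct.assoc R R R A A B).symm (mulHom R A B (gam2 R A B c)) := fun c => by
    rw [d₁b]
    exact congrArg (Algebra.TensorProduct.assoc R R R A A B).symm (gam3_comp pr3_mul c)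
  have hGd : ∀ c : Γ((sp R A ⊗ sp R B).left, ⊤), G (d.base.left.appTop.hom c) =
      (Algebra.TensorProduct.assoc R R R A A B).symm
        (Algebra.TensorProduct.map (AlgHom.id R A) (actHom R A B) (gam2 R A B c)) := fun c => by
    rw [db]
    exact congrArg (Algebra.TensorProduct.assoc R R R A A B).symm (gam3_comp pr3_whiskerLeft_act c)
  obtain ⟨e₃, he₃⟩ := exists_tensorBC (R := R) (A := A ⊗[R] A) (M := HM B M) (B₀ := Γ((sp R B).left, ⊤)) (C' := C2)
    (gam R B) (fun _ _ => rfl) (N := EM R A B M p₁) G (φ := (bmap (QS R A B) p₁).appTop.hom)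
    (fun b => by
      rw [bmap_hom_comp]
      refine (hGe ((bmap (QS R A B) (po R A B)).appTop.hom b)).trans ?_
      rw [show gam2 R A B ((bmap (QS R A B) (po R A B)).appTop.hom b) =
        (includeRight : B →ₐ[R] A ⊗[R] B) (gam R B b) from gam2_comp (m := snd (sp R A) (sp R B)) pr_snd b]
      simp [Algebra.TensorProduct.one_def])
    (g := um R A B M p₁) (isBC_mk _ _)
  have he₃mul : ∀ (γc : C2) (z : EM R A B M p₁),
      e₃ ((show Γ(sch (QS R A B) w2, ⊤) from γc) • z) = act2 (G γc) (e₃ z) := fun γc z => by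
    refine bc_induction (isBC_mk (bmap (QS R A B) p₁).appTop.hom (HM B M))
      (P := fun z => e₃ ((show Γ(sch (QS R A B) w2, ⊤) from γc) • z) = act2 (G γc) (e₃ z)) ?_
      (fun x y hx hy => by simp only [smul_add, map_add, hx, hy]) (fun c' m => ?_) z
    · simp
    · show e₃ (_ • c' • um R A B M p₁ m) = act2 _ (e₃ (c' • um R A B M p₁ m))
      rw [smul_smul]
      refine (he₃ _ m).trans (Eq.trans ?_ (congrArg (act2 (G γc)) (he₃ c' m)).symm)
      rw [act2_tm]
      exact congrArg (fun t => tm t m) (map_mul G γc c')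
  have he₃e : ∀ ζ : EM R A B M (po R A B), e₃ (resK (C := QC R A B) e' rfl ζ) =
      (TensorProduct.assoc R A A (HM B M)).symm ((1 : A) ⊗ₜ eE ζ) := fun ζ => by
    refine bc_induction (isBC_mk (bmap (QS R A B) (po R A B)).appTop.hom (HM B M))
      (P := fun ζ => e₃ (resK (C := QC R A B) e' rfl ζ) =
        (TensorProduct.assoc R A A (HM B M)).symm ((1 : A) ⊗ₜ eE ζ)) ?_
      (fun x y hx hy => by simp only [map_add, hx, hy, tmul_add]) (fun c m => ?_) ζ
    · simp
    · show e₃ (resK (C := QC R A B) e' rfl (c • um R A B M (po R A B) m)) = _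
      rw [isSL_resK (C := QC R A B) e' rfl, resK_unit]
      refine (he₃ _ m).trans ?_
      refine (congrArg (fun t => tm t m) (hGe c)).trans ?_
      refine Eq.trans ?_ (congrArg (fun t => (TensorProduct.assoc R A A (HM B M)).symm ((1 : A) ⊗ₜ t)) (eE_smul c m)).symm
      generalize gam2 R A B c = t
      induction t with
      | zero => simp [tm_zero_left]
      | add x y hx hy => simp only [tmul_add, map_add, tm_add_left, hx, hy]
      | tmul a b => simp [tm_tmul]
  have hA : ∀ ξ : EM R A B M (po R A B), e₃ (resK (C := QC R A B) d₁' (a' := p₁) h₁ ξ) =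
      (CoalgebraStruct.comul (R := R) (A := A)).rTensor (HM B M) (eE ξ) := fun ξ => by
    refine bc_induction (isBC_mk (bmap (QS R A B) (po R A B)).appTop.hom (HM B M))
      (P := fun ξ => e₃ (resK (C := QC R A B) d₁' (a' := p₁) h₁ ξ) =
        (CoalgebraStruct.comul (R := R) (A := A)).rTensor (HM B M) (eE ξ)) ?_
      (fun x y hx hy => by simp only [map_add, hx, hy]) (fun c m => ?_) ξ
    · simp
    · show e₃ (resK (C := QC R A B) d₁' (a' := p₁) h₁ (c • um R A B M (po R A B) m)) = _
      rw [isSL_resK (C := QC R A B) d₁' (a' := p₁) h₁, resK_unit]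
      refine (he₃ _ m).trans ?_
      refine (congrArg (fun t => tm t m) (hGd₁ c)).trans ?_
      refine Eq.trans ?_ (congrArg _ (eE_smul c m)).symm
      generalize gam2 R A B c = t
      induction t with
      | zero => simp [tm_zero_left]
      | add x y hx hy => simp only [map_add, tm_add_left, hx, hy]
      | tmul a b =>
        simp only [tm_tmul, LinearMap.rTensor_tmul, mulHom, Algebra.TensorProduct.lift_tmul, AlgHom.comp_apply,
          Bialgebra.comulAlgHom_apply]
        generalize CoalgebraStruct.comul (R := R) (A := A) a = t'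
        induction t' with
        | zero => simp [tm_zero_left]
        | add x y hx hy => simp only [map_add, add_mul, tm_add_left, add_tmul, hx, hy]
        | tmul a₁ a₂ => simp [tm_tmul]
  have hB : ∀ ξ : EM R A B M (po R A B), e₃ (kapv h𝒳 p₁ p₂ (resK (C := QC R A B) d' (a' := p₂) h₂ ξ)) =
      (TensorProduct.assoc R A A (HM B M)).symm ((coleft R A).lTensor A (eE ξ)) := fun ξ => by
    refine bc_induction (isBC_mk (bmap (QS R A B) (po R A B)).appTop.hom (HM B M))
      (P := fun ξ => e₃ (kapv h𝒳 p₁ p₂ (resK (C := QC R A B) d' (a' := p₂) h₂ ξ)) =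
        (TensorProduct.assoc R A A (HM B M)).symm ((coleft R A).lTensor A (eE ξ))) ?_
      (fun x y hx hy => by simp only [map_add, hx, hy]) (fun c m => ?_) ξ
    · simp
    · show e₃ (kapv h𝒳 p₁ p₂ (resK (C := QC R A B) d' (a' := p₂) h₂ (c • um R A B M (po R A B) m))) = _
      rw [isSL_resK (C := QC R A B) d' (a' := p₂) h₂, resK_unit, map_smul, kapv_unit h𝒳 e' rfl rfl]
      refine (he₃mul _ _).trans ?_
      refine (congrArg₂ (fun s t => act2 s t) (hGd c) (he₃e (th0 m))).trans ?_
      refine Eq.trans ?_ (congrArg (fun t => (TensorProduct.assoc R A A (HM B M)).symm ((coleft R A).lTensor A t))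
        (eE_smul c m)).symm
      rw [eE_th0]
      generalize gam2 R A B c = t
      induction t with
      | zero => simp [tm_zero_left]
      | add x y hx hy => simp only [map_add, LinearMap.add_apply, tm_add_left, hx, hy]
      | tmul a b =>
        simp only [tm_tmul, LinearMap.lTensor_tmul, Algebra.TensorProduct.map_tmul, AlgHom.coe_id, id_eq, coleft_smul]
        generalize actHom R A B b = t'
        generalize coleft R A m = s
        induction t' with
        | zero => simp
        | add x y hx hy => simp only [map_add, LinearMap.add_apply, tmul_add, hx, hy]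
        | tmul a₁ b₁ =>
          induction s with
          | zero => simp
          | add x y hx hy => simp only [map_add, tmul_add, hx, hy]
          | tmul a₂ n => simp
  rw [kapv_unit h𝒳 d' (a := p₂) h₂ rfl, kapv_unit h𝒳 d₁' (a := p₁) h₁ h₃.symm]
  apply e₃.injective
  rw [hA, hB, eE_th0, coleft_coassoc, LinearEquiv.symm_apply_apply]

theorem kapv_trans {z : (QS R A B).obj} [IsAffine (sch (QS R A B) z)] (a b c : z ⟶ xo R A B) (v : EM R A B M c) :
    kapv h𝒳 a b (kapv h𝒳 b c v) = kapv h𝒳 a c v := by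
  refine LinearMap.congr_fun (bc_ext (isBC_mk (bmap (QS R A B) c).appTop.hom (HM B M))
    (F := (kapv h𝒳 a b).comp (kapv h𝒳 b c)) (s := Set.univ) Submodule.span_univ fun m _ => ?_) v
  show kapv h𝒳 a b (kapv h𝒳 b c (um R A B M c m)) = kapv h𝒳 a c (um R A B M c m)
  obtain ⟨w2, _, p₁, p₂, p₃, huniv, hcoc⟩ := kapv_tri (M := M) h𝒳
  obtain ⟨f, ha, hb, hc⟩ := huniv a b c
  have h := congrArg (resK (C := QC R A B) f ha) (hcoc m)
  rw [kapv_nat h𝒳 f ha hb, kapv_nat h𝒳 f hb hc, resK_unit, kapv_nat h𝒳 f ha hc, resK_unit] at h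
  exact h

/-- The comparison of extensions of a relative Hopf module. -/
noncomputable def kapHM : Kap (QC R A B) (HM B M) where
  kap a b := kapv h𝒳 a b
  nat g _ _ _ _ ha hb v := kapv_nat h𝒳 g ha hb v
  self a v := kapv_self h𝒳 a v
  trans a b c v := kapv_trans h𝒳 a b c v

end Groth.Agent.H14.QuotHopf
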