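import Groth.Agent.H14.GenFam.ExtEval

/-!
The quasi-coherent module given by a module at a chart and a comparison of its extensions.
-/

set_option autoImplicit false
set_option backward.isDefEq.respectTransparency false
set_option backward.isDefEq.respectTransparency.types false
set_option linter.style.haveILetI false

universe u

open CategoryTheory CategoryTheory.Limits AlgebraicGeometry Opposite TopologicalSpace
open StMod (sch bmap)
open Groth.Agent.Lib.AlgStack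
open Groth.Agent.H14.ModDesc
open Groth.Agent.H14.GenFam (Chart Cover Ext sl_extend sl_ext isBC_mk topLift topLift_ι topLift_toGlobal
  bmap_hom_comp exists_obj exists_hom_over)

namespace Groth.Agent.H14.QuotHopf

variable {S : Scheme.{u}} {𝒳 : AlgSt.Cat S} {C : Chart 𝒳} {M : Type u} [AddCommGroup M]
  [Module Γ(sch 𝒳 C.x, ⊤) M]

variable (M C) in
/-- The extension of the module along a map to the chart. -/
abbrev KM {z : 𝒳.obj} (a : z ⟶ C.x) : Type u := Ext (bmap 𝒳 a).appTop.hom M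

variable (M C) in
/-- The unit of the extension. -/
noncomputable abbrev kUnit {z : 𝒳.obj} (a : z ⟶ C.x) : M →+ KM C M a := Ext.mk _ _

/-- Restriction of the extensions. -/
theorem exists_resK {z' z : 𝒳.obj} (g : z' ⟶ z) {a : z ⟶ C.x} {a' : z' ⟶ C.x} (h : g ≫ a = a') :
    ∃ F : KM C M a →+ KM C M a', IsSL (bmap 𝒳 g).appTop.hom F ∧ ∀ m, F (kUnit C M a m) = kUnit C M a' m := by
  subst h
  exact sl_extend (isBC_mk _ _) _ (bmap_hom_comp g a ▸ (isBC_mk _ (M)).sl)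

/-- Restriction of the extensions. -/
noncomputable def resK {z' z : 𝒳.obj} (g : z' ⟶ z) {a : z ⟶ C.x} {a' : z' ⟶ C.x} (h : g ≫ a = a') :
    KM C M a →+ KM C M a' :=
  (exists_resK g h).choose

theorem isSL_resK {z' z : 𝒳.obj} (g : z' ⟶ z) {a : z ⟶ C.x} {a' : z' ⟶ C.x} (h : g ≫ a = a') :
    IsSL (bmap 𝒳 g).appTop.hom (resK (M := M) g h) :=
  (exists_resK g h).choose_spec.1

theorem resK_unit {z' z : 𝒳.obj} (g : z' ⟶ z) {a : z ⟶ C.x} {a' : z' ⟶ C.x} (h : g ≫ a = a') (m : M) :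
    resK g h (kUnit C M a m) = kUnit C M a' m :=
  (exists_resK g h).choose_spec.2 m

theorem resK_unique {z' z : 𝒳.obj} (g : z' ⟶ z) {a : z ⟶ C.x} {a' : z' ⟶ C.x} (h : g ≫ a = a')
    {F : KM C M a →+ KM C M a'} (hs : IsSL (bmap 𝒳 g).appTop.hom F)
    (hu : ∀ m, F (kUnit C M a m) = kUnit C M a' m) : F = resK g h :=
  sl_ext (isBC_mk _ _) hs (isSL_resK g h) fun m => (hu m).trans (resK_unit g h m).symm

theorem resK_id {z : 𝒳.obj} {a : z ⟶ C.x} (h : 𝟙 z ≫ a = a) (v : KM C M a) : resK (𝟙 z) h v = v := by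
  refine (DFunLike.congr_fun (resK_unique (𝟙 z) h (F := AddMonoidHom.id _) (fun r m => ?_) fun m => rfl) v).symm
  show r • m = (bmap 𝒳 (𝟙 z)).appTop.hom r • m
  rw [StMod.bmap_id, Scheme.Hom.id_appTop]
  rfl

theorem resK_comp {z'' z' z : 𝒳.obj} (g' : z'' ⟶ z') (g : z' ⟶ z) {a : z ⟶ C.x} {a' : z' ⟶ C.x}
    {a'' : z'' ⟶ C.x} (h : g ≫ a = a') (h' : g' ≫ a' = a'') (h'' : (g' ≫ g) ≫ a = a'') (v : KM C M a) :
    resK (g' ≫ g) h'' v = resK g' h' (resK g h v) := by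
  refine (DFunLike.congr_fun (resK_unique (g' ≫ g) h'' (F := (resK g' h').comp (resK g h)) (fun r m => ?_)
    fun m => ?_) v).symm
  · show resK g' h' (resK g h (r • m)) = (bmap 𝒳 (g' ≫ g)).appTop.hom r • resK g' h' (resK g h m)
    rw [isSL_resK g h, isSL_resK g' h', bmap_hom_comp]
    rfl
  · show resK g' h' (resK g h (kUnit C M a m)) = _
    rw [resK_unit, resK_unit]

theorem resK_congr {z' z : 𝒳.obj} {g g' : z' ⟶ z} (e : g = g') {a : z ⟶ C.x} {a' : z' ⟶ C.x} (h : g ≫ a = a')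
    (h' : g' ≫ a = a') (v : KM C M a) : resK g h v = resK g' h' v := by
  subst e
  rfl

theorem isBC_resK {z' z : 𝒳.obj} (g : z' ⟶ z) {a : z ⟶ C.x} {a' : z' ⟶ C.x} (h : g ≫ a = a') :
    IsBC (bmap 𝒳 g).appTop.hom (resK (M := M) g h) := by
  refine IsBC.of_comp (isBC_mk _ _) (isSL_resK g h) ((isBC_mk (bmap 𝒳 a').appTop.hom _).congr ?_ ?_)
  · rw [← bmap_hom_comp, h]
  · exact AddMonoidHom.ext fun m => (resK_unit g h m).symm

variable (C M) in
/-- A comparison of the extensions along two maps to the chart. -/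
structure Kap where
  /-- the comparison -/
  kap : ∀ {z : 𝒳.obj} [IsAffine (sch 𝒳 z)] (a b : z ⟶ C.x), KM C M b →ₗ[Γ(sch 𝒳 z, ⊤)] KM C M a
  nat : ∀ {z' z : 𝒳.obj} [IsAffine (sch 𝒳 z')] [IsAffine (sch 𝒳 z)] (g : z' ⟶ z) {a b : z ⟶ C.x}
    {a' b' : z' ⟶ C.x} (ha : g ≫ a = a') (hb : g ≫ b = b') (v : KM C M b),
    resK g ha (kap a b v) = kap a' b' (resK g hb v)
  self : ∀ {z : 𝒳.obj} [IsAffine (sch 𝒳 z)] (a : z ⟶ C.x) (v : KM C M a), kap a a v = v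
  trans : ∀ {z : 𝒳.obj} [IsAffine (sch 𝒳 z)] (a b c : z ⟶ C.x) (v : KM C M c),
    kap a b (kap b c v) = kap a c v

theorem Kap.bij (K : Kap C M) {z : 𝒳.obj} [IsAffine (sch 𝒳 z)] (a b : z ⟶ C.x) : Function.Bijective (K.kap a b) :=
  Function.bijective_iff_has_inverse.2 ⟨K.kap b a, fun v => (K.trans b a b v).trans (K.self b v),
    fun v => (K.trans a b a v).trans (K.self a v)⟩

variable (K : Kap C M) (hfib : FibCat.IsFibGrpd 𝒳.p)

/-- An affine object over an object, with a map to the chart. -/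
structure CObj (C : Chart 𝒳) (y : 𝒳.obj) where
  /-- the object -/
  z : 𝒳.obj
  /-- the map -/
  u : z ⟶ y
  /-- the map to the chart -/
  a : z ⟶ C.x
  aff : IsAffine (sch 𝒳 z)

attribute [instance] CObj.aff

variable {y : 𝒳.obj}

/-- The morphisms of schemes under morphisms over the object. -/
def CRel {l' l : CObj C y} (g : sch 𝒳 l'.z ⟶ sch 𝒳 l.z) : Prop :=
  ∃ k : l'.z ⟶ l.z, bmap 𝒳 k = g ∧ k ≫ l.u = l'.u

theorem cRel_unique (hfib : FibCat.IsFibGrpd 𝒳.p) {l' l : CObj C y} {k k' : l'.z ⟶ l.z}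
    (hb : bmap 𝒳 k = bmap 𝒳 k') (h : k ≫ l.u = l'.u) (h' : k' ≫ l.u = l'.u) : k = k' :=
  BasedBasic.hom_eq_of_comp_eq hfib l.u (Over.OverMorphism.ext hb) (h.trans h'.symm)



/-- The restriction of the extensions along a map over the object. -/
noncomputable def cRes {l' l : CObj C y} (k : l'.z ⟶ l.z) : KM C M l.a →+ KM C M l'.a :=
  (K.kap l'.a (k ≫ l.a)).toAddMonoidHom.comp (resK k rfl)

theorem cRes_apply {l' l : CObj C y} (k : l'.z ⟶ l.z) (v : KM C M l.a) :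
    cRes K k v = K.kap l'.a (k ≫ l.a) (resK k rfl v) := rfl

theorem isBC_cRes {l' l : CObj C y} (k : l'.z ⟶ l.z) :
    IsBC (bmap 𝒳 k).appTop.hom (cRes K (l' := l') (l := l) k) := by
  refine ((isBC_resK k rfl).comp (isBC_of_bijective (φ := RingHom.id _) Function.bijective_id
    (fun r m => (K.kap l'.a (k ≫ l.a)).map_smul r m) (K.bij _ _))).congr ?_ rfl
  exact RingHom.id_comp _

theorem cRes_id (l : CObj C y) (v : KM C M l.a) : cRes K (l' := l) (l := l) (𝟙 l.z) v = v := by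
  have e : resK (𝟙 l.z) (Category.id_comp l.a) v = v := resK_id _ v
  rw [cRes_apply]
  revert e
  generalize (rfl : 𝟙 l.z ≫ l.a = 𝟙 l.z ≫ l.a) = h
  intro e
  have key : ∀ (a' : l.z ⟶ C.x) (h' : 𝟙 l.z ≫ l.a = a') (e : l.a = a'),
      K.kap l.a a' (resK (𝟙 l.z) h' v) = v := fun a' h' e => by
    subst e
    rw [resK_id, K.self]
  exact key _ h (Category.id_comp l.a).symm

theorem cRes_comp {l'' l' l : CObj C y} (k' : l''.z ⟶ l'.z) (k : l'.z ⟶ l.z) (v : KM C M l.a) :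
    cRes K (l' := l'') (l := l) (k' ≫ k) v = cRes K k' (cRes K (l' := l') (l := l) k v) := by
  rw [cRes_apply, cRes_apply, cRes_apply, K.nat k' rfl (Category.assoc k' k l.a).symm,
    K.trans]
  have key : ∀ (a' : l''.z ⟶ C.x) (h' : (k' ≫ k) ≫ l.a = a') (a'' : l''.z ⟶ C.x) (h'' : k' ≫ k ≫ l.a = a'')
      (_ : a' = a''), K.kap l''.a a' (resK (k' ≫ k) h' v) = K.kap l''.a a'' (resK k' h'' (resK k rfl v)) :=
    fun a' h' a'' h'' e => by
      subst e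
      rw [resK_comp k' k rfl h'' h']
  exact key _ _ _ _ rfl

/-- The datum over an object. -/
noncomputable def cDatum (y : 𝒳.obj) : Datum.{u, u + 1} (sch 𝒳 y) where
  Obj := CObj C y
  Z l := sch 𝒳 l.z
  isAffine l := l.aff
  b l := bmap 𝒳 l.u
  Rel := CRel
  rel_over := fun {l' l g} hg => by
    obtain ⟨k, rfl, h⟩ := hg
    rw [← StMod.bmap_comp, h]
  rel_id l := ⟨𝟙 l.z, StMod.bmap_id _, Category.id_comp _⟩
  rel_comp := fun {l'' l' l g' g} hg' hg => by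
    obtain ⟨k', rfl, h'⟩ := hg'
    obtain ⟨k, rfl, h⟩ := hg
    exact ⟨k' ≫ k, StMod.bmap_comp _ _, by rw [Category.assoc, h, h']⟩
  M l := KM C M l.a
  res g hg := cRes K hg.choose
  res_id l x := by
    have hg : CRel (𝟙 (sch 𝒳 l.z)) (l' := l) (l := l) := ⟨𝟙 l.z, StMod.bmap_id _, Category.id_comp _⟩
    have e : hg.choose = 𝟙 l.z := cRel_unique hfib (hg.choose_spec.1.trans (StMod.bmap_id _).symm)
      hg.choose_spec.2 (Category.id_comp _)
    rw [e, cRes_id]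
  res_comp := fun {l'' l' l g' g} hg' hg x => by
    have hgg : CRel (g' ≫ g) (l' := l'') (l := l) := by
      obtain ⟨k', rfl, h'⟩ := hg'
      obtain ⟨k, rfl, h⟩ := hg
      exact ⟨k' ≫ k, StMod.bmap_comp _ _, by rw [Category.assoc, h, h']⟩
    have e : hgg.choose = hg'.choose ≫ hg.choose := cRel_unique hfib
      (by rw [hgg.choose_spec.1, StMod.bmap_comp, hg'.choose_spec.1, hg.choose_spec.1])
      hgg.choose_spec.2 (by rw [Category.assoc, hg.choose_spec.2, hg'.choose_spec.2])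
    show cRes K hgg.choose x = _
    rw [e, cRes_comp]
  bc := fun {l' l g} hg => (isBC_cRes K hg.choose).congr (by rw [hg.choose_spec.1]) rfl
  pull l P _ p := by
    obtain ⟨z', φ, e, hφ⟩ := exists_obj hfib l.z p
    exact ⟨⟨z', φ ≫ l.u, φ ≫ l.a, IsAffine.of_isIso e.hom⟩, e, φ, hφ, rfl⟩
  factor := fun {E l' l g₁ g₂ g} h₁ h₂ hg => by
    obtain ⟨k₁, rfl, e₁⟩ := h₁
    obtain ⟨k₂, rfl, e₂⟩ := h₂
    obtain ⟨k, hk, hk₂⟩ := exists_hom_over hfib k₁ k₂ g hg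
    exact ⟨k, hk, by rw [← e₂, ← Category.assoc, hk₂, e₁]⟩
  refine' l₁ l₂ P _ p₁ p₂ hp := by
    obtain ⟨z', φ, e, hφ⟩ := exists_obj hfib l₁.z p₁
    obtain ⟨k, hk, hk₂⟩ := exists_hom_over hfib (φ ≫ l₁.u) l₂.u (e.hom ≫ p₂) (by
      rw [StMod.bmap_comp, hφ, Category.assoc, Category.assoc, hp])
    exact ⟨1, fun _ => ⟨z', φ ≫ l₁.u, φ ≫ l₁.a, IsAffine.of_isIso e.hom⟩, fun _ => e.hom,
      fun _ => inferInstanceAs (Flat e.hom), fun x => ⟨0, e.inv x, by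
        rw [← Scheme.Hom.comp_apply, Iso.inv_hom_id]; rfl⟩,
      fun _ => ⟨⟨φ, hφ, rfl⟩, k, hk, hk₂⟩⟩
  cover := fun {V} hV => by
    obtain ⟨v, φ, e, hφ⟩ := exists_obj hfib y V.ι
    have : IsAffine V.toScheme := hV
    have hv : IsAffine (sch 𝒳 v) := IsAffine.of_isIso e.hom
    obtain ⟨n, D, hD⟩ := C.cover v hv
    refine ⟨n, fun j => ⟨D.E j, D.e j ≫ φ, (hD j).some, D.aff j⟩, fun j => bmap 𝒳 (D.e j) ≫ e.hom,
      fun j => ?_, fun j => ?_, fun x => ?_⟩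
    · show (bmap 𝒳 (D.e j) ≫ e.hom) ≫ V.ι = bmap 𝒳 (D.e j ≫ φ)
      rw [StMod.bmap_comp, hφ, Category.assoc]
    · have := D.flat j
      infer_instance
    · obtain ⟨j, t, ht⟩ := D.surj (e.inv x)
      refine ⟨j, t, ?_⟩
      rw [Scheme.Hom.comp_apply, ht, ← Scheme.Hom.comp_apply, Iso.inv_hom_id]
      rfl

/-- Transport of the objects along a morphism. -/
noncomputable def cPushMap {y' y : 𝒳.obj} (h : y' ⟶ y) {g : sch 𝒳 y' ⟶ sch 𝒳 y} (hg : bmap 𝒳 h = g) :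
    Datum.Map (cDatum K hfib y') (cDatum K hfib y) g where
  obj l := ⟨l.z, l.u ≫ h, l.a, l.aff⟩
  e l := Iso.refl _
  over l := by
    show 𝟙 _ ≫ bmap 𝒳 (l.u ≫ h) = bmap 𝒳 l.u ≫ g
    rw [Category.id_comp, StMod.bmap_comp, hg]
  φ l := AddMonoidHom.id _
  sl l r m := by
    have e : (𝟙 (sch 𝒳 l.z) : sch 𝒳 l.z ⟶ sch 𝒳 l.z).appTop.hom r = r := by
      rw [Scheme.Hom.id_appTop]
      rfl
    show (show Γ(sch 𝒳 l.z, ⊤) from r) • (show KM C M l.a from m) =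
      (𝟙 (sch 𝒳 l.z) : sch 𝒳 l.z ⟶ sch 𝒳 l.z).appTop.hom r • (show KM C M l.a from m)
    rw [e]
  rel := fun {l₁ l₂ q} hq => by
    obtain ⟨k, hb, hu⟩ := hq
    refine ⟨k, ?_, ?_⟩
    · show bmap 𝒳 k = 𝟙 _ ≫ q ≫ 𝟙 _
      rw [Category.id_comp]
      exact hb.trans (Category.comp_id q).symm
    · show k ≫ l₂.u ≫ h = l₁.u ≫ h
      rw [← Category.assoc, hu]
  comm := fun {l₁ l₂ q} hq x => by
    have hq' : CRel (y := y) (l' := ⟨l₁.z, l₁.u ≫ h, l₁.a, l₁.aff⟩) (l := ⟨l₂.z, l₂.u ≫ h, l₂.a, l₂.aff⟩)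
        (𝟙 _ ≫ q ≫ 𝟙 _) := by
      obtain ⟨k, hb, hu⟩ := hq
      exact ⟨k, by rw [Category.id_comp, hb]; exact (Category.comp_id q).symm, by
        show k ≫ l₂.u ≫ h = l₁.u ≫ h
        rw [← Category.assoc, hu]⟩
    have e : hq.choose = hq'.choose := cRel_unique hfib (l' := ⟨l₁.z, l₁.u ≫ h, l₁.a, l₁.aff⟩)
      (l := ⟨l₂.z, l₂.u ≫ h, l₂.a, l₂.aff⟩)
      (by rw [hq.choose_spec.1, hq'.choose_spec.1, Category.id_comp]; exact (Category.comp_id q).symm)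
      (by
        show hq.choose ≫ l₂.u ≫ h = l₁.u ≫ h
        rw [← Category.assoc, hq.choose_spec.2])
      hq'.choose_spec.2
    show cRes K (l' := l₁) (l := l₂) hq.choose x =
      cRes K (l' := ⟨l₁.z, l₁.u ≫ h, l₁.a, l₁.aff⟩) (l := ⟨l₂.z, l₂.u ≫ h, l₂.a, l₂.aff⟩) hq'.choose x
    rw [← e]
    rfl

theorem cObj_ext {y : 𝒳.obj} {z : 𝒳.obj} {u u' : z ⟶ y} (h : u = u') (a : z ⟶ C.x) (i : IsAffine (sch 𝒳 z))
    {W : Scheme.{u}} {k : W ⟶ sch 𝒳 y} (s : (cDatum K hfib y).Fam k) {c c' : sch 𝒳 z ⟶ W} (hcc : c = c')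
    (hc : c ≫ k = bmap 𝒳 u) (hc' : c' ≫ k = bmap 𝒳 u') :
    (s.1 (⟨z, u, a, i⟩ : CObj C y) ⟨c, hc⟩ : KM C M a) = s.1 (⟨z, u', a, i⟩ : CObj C y) ⟨c', hc'⟩ := by
  subst h hcc
  rfl

/-- The extension. -/
noncomputable def kMod : StMod.Mod 𝒳 where
  obj y := (cDatum K hfib y).descMod
  map h _ hg := Datum.descMap (cPushMap K hfib h hg)
  map_id y := by
    apply Scheme.Modules.hom_ext
    intro U
    ext t
    apply ((cDatum K hfib y).secEquiv U).injective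
    refine (Datum.secEquiv_descMap (cPushMap K hfib (𝟙 y) (StMod.bmap_id y)) U t).trans
      (Datum.fam_ext fun l c hc => ?_)
    refine cObj_ext K hfib (Category.comp_id _) l.a l.aff _ ?_ _ hc
    show 𝟙 _ ≫ c ≫ (𝟙 (sch 𝒳 y) : sch 𝒳 y ⟶ sch 𝒳 y).resLE U U le_rfl = c
    rw [Category.id_comp, ← cancel_mono U.ι, Category.assoc, Scheme.Hom.resLE_comp_ι, Category.comp_id]
  map_comp := fun {y'' y' y} ψ φ k g hk hg => by
    apply Scheme.Modules.hom_ext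
    intro U
    ext t
    apply ((cDatum K hfib y'').secEquiv ((k ≫ g) ⁻¹ᵁ U)).injective
    refine (Datum.secEquiv_descMap (cPushMap K hfib (ψ ≫ φ) _) U t).trans
      (Eq.trans ?_ (Datum.secEquiv_descMap (cPushMap K hfib ψ hk) (g ⁻¹ᵁ U) _).symm)
    erw [Datum.secEquiv_descMap (cPushMap K hfib φ hg) U t]
    refine Datum.fam_ext fun l c hc => ?_
    refine cObj_ext K hfib (Category.assoc _ _ _).symm l.a l.aff _ ?_ _ _
    show 𝟙 _ ≫ c ≫ (k ≫ g).resLE U ((k ≫ g) ⁻¹ᵁ U) le_rfl =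
      𝟙 _ ≫ (𝟙 _ ≫ c ≫ k.resLE (g ⁻¹ᵁ U) ((k ≫ g) ⁻¹ᵁ U) le_rfl) ≫ g.resLE U (g ⁻¹ᵁ U) le_rfl
    simp only [Category.id_comp]
    rw [← cancel_mono U.ι]
    simp only [Category.assoc, Scheme.Hom.resLE_comp_ι, Scheme.Hom.resLE_comp_ι_assoc]

/-- The extension as a quasi-coherent module. -/
noncomputable def kExt : StMod.QCoh 𝒳 :=
  ⟨kMod K hfib, fun _ _ h _ hg => Datum.isIso_adjoint_descMap (cPushMap K hfib h hg)
    fun _ => Function.bijective_id, fun _ => Datum.isQuasicoherent_descMod _⟩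



/-- The value of the extension at an affine object with a map to the chart. -/
noncomputable def extEv (o : 𝒳.obj) [ho : IsAffine (sch 𝒳 o)] (a : o ⟶ C.x) :
    Γ((kExt K hfib).obj.obj o, ⊤) →+ KM C M a where
  toFun s := ((cDatum K hfib o).secEquiv ⊤ s).1 ⟨o, 𝟙 o, a, ho⟩
    ⟨topLift _, (topLift_ι _).trans (StMod.bmap_id o).symm⟩
  map_zero' := by
    rw [map_zero]
    rfl
  map_add' s t := by
    rw [map_add]
    rfl

theorem extEv_smul (o : 𝒳.obj) [IsAffine (sch 𝒳 o)] (a : o ⟶ C.x) (r : Γ(sch 𝒳 o, ⊤))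
    (s : Γ((kExt K hfib).obj.obj o, ⊤)) : extEv K hfib o a (r • s) = r • extEv K hfib o a s := by
  show ((cDatum K hfib o).secEquiv ⊤ (r • s)).1 _ _ = _
  rw [map_smul]
  show (topLift (sch 𝒳 o)).appTop.hom (Datum.toGlobal (⊤ : (sch 𝒳 o).Opens) r) • extEv K hfib o a s = _
  rw [topLift_toGlobal]

theorem bijective_extEv (o : 𝒳.obj) [ho : IsAffine (sch 𝒳 o)] (a : o ⟶ C.x) :
    Function.Bijective (extEv K hfib o a) := by
  have : IsAffine (⊤ : (sch 𝒳 o).Opens).toScheme := isAffineOpen_top _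
  obtain ⟨n, ⟨Kc⟩⟩ := Datum.exists_wcov (D := cDatum K hfib o) (isAffineOpen_top (sch 𝒳 o))
  have : IsIso (topLift (sch 𝒳 o)) := by
    refine ⟨(⊤ : (sch 𝒳 o).Opens).ι, topLift_ι _, ?_⟩
    rw [← cancel_mono (⊤ : (sch 𝒳 o).Opens).ι, Category.assoc, topLift_ι, Category.comp_id, Category.id_comp]
  have hb := (Kc.isBC_ev (⟨o, 𝟙 o, a, ho⟩ : CObj C o) (topLift _) ((topLift_ι _).trans (StMod.bmap_id o).symm)).bijective
    (bijective_appTop (topLift (sch 𝒳 o)))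
  exact hb.comp ((cDatum K hfib o).secEquiv ⊤).bijective

set_option maxHeartbeats 800000 in
theorem extEv_mapTop {o' o : 𝒳.obj} [ho' : IsAffine (sch 𝒳 o')] [ho : IsAffine (sch 𝒳 o)] (e : o' ⟶ o)
    (a : o ⟶ C.x) (a' : o' ⟶ C.x) (s : Γ((kExt K hfib).obj.obj o, ⊤)) :
    extEv K hfib o' a' ((kExt K hfib).obj.mapTop e s) =
      K.kap a' (e ≫ a) (resK e rfl (extEv K hfib o a s)) := by
  let D := cDatum K hfib o
  let t := D.secEquiv ⊤ s
  let l₁ : CObj C o := ⟨o', 𝟙 o' ≫ e, a', ho'⟩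
  let l : CObj C o := ⟨o, 𝟙 o, a, ho⟩
  have hg : D.Rel (l' := l₁) (l := l) (bmap 𝒳 e) := ⟨e, rfl, (Category.comp_id e).trans (Category.id_comp e).symm⟩
  have he : hg.choose = e := cRel_unique hfib (l' := l₁) (l := l) hg.choose_spec.1 hg.choose_spec.2
    ((Category.comp_id e).trans (Category.id_comp e).symm)
  have hc : (bmap 𝒳 e ≫ topLift (sch 𝒳 o)) ≫ (⊤ : (sch 𝒳 o).Opens).ι = D.b l₁ := by
    show _ = bmap 𝒳 (𝟙 o' ≫ e)
    rw [Category.assoc, topLift_ι, Category.comp_id, Category.id_comp]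
  have hl : topLift (sch 𝒳 o) ≫ (⊤ : (sch 𝒳 o).Opens).ι = D.b l := (topLift_ι _).trans (StMod.bmap_id o).symm
  have h₁ : D.res (l' := l₁) (l := l) (bmap 𝒳 e) hg (t.1 l ⟨topLift (sch 𝒳 o), hl⟩) =
      t.1 l₁ ⟨bmap 𝒳 e ≫ topLift (sch 𝒳 o), hc⟩ :=
    t.2 (l' := l₁) (l := l) (bmap 𝒳 e) hg (topLift (sch 𝒳 o)) hl
  refine Eq.trans ?_ (Eq.trans h₁.symm ?_)
  · show ((cDatum K hfib o').secEquiv (bmap 𝒳 e ⁻¹ᵁ ⊤)
      ((Datum.descMap (cPushMap K hfib e rfl)).app ⊤ s)).1 ⟨o', 𝟙 o', a', ho'⟩ ⟨topLift _, _⟩ = _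
    rw [Datum.secEquiv_descMap]
    refine Datum.fam_congr (D := D) t ?_ _ _
    rw [← cancel_mono (⊤ : (sch 𝒳 o).Opens).ι, Category.assoc, Category.assoc, Scheme.Hom.resLE_comp_ι,
      Category.assoc, topLift_ι, Category.comp_id]
    show 𝟙 _ ≫ topLift (sch 𝒳 o') ≫ (⊤ : (sch 𝒳 o').Opens).ι ≫ bmap 𝒳 e = bmap 𝒳 e
    rw [reassoc_of% (topLift_ι (sch 𝒳 o')), Category.id_comp]
  · show cRes K (l' := l₁) (l := l) hg.choose _ = _
    rw [he]
    rfl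

end Groth.Agent.H14.QuotHopf
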