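import Groth.Agent.H14.QuotHopf.ToComod

/-!
The left coaction of a relative Hopf module.
-/

set_option autoImplicit false
set_option backward.isDefEq.respectTransparency false
set_option backward.isDefEq.respectTransparency.types false
set_option linter.style.haveILetI false

universe u

open TensorProduct
open Algebra.TensorProduct (includeLeft includeRight)
open CoactBr
open Groth.Agent.H14.QuotGood

namespace Groth.Agent.H14.QuotHopf

variable {R A : Type u} [CommRing R] [CommRing A] [HopfAlgebra R A] {M : Type u} [AddCommGroup M] [Module R M]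

/-- The inverse change of side. -/
noncomputable def flipI : M ⊗[R] A →ₗ[R] A ⊗[R] M :=
  (HopfAlgebraStruct.antipode (R := R) (A := A)).rTensor M ∘ₗ (TensorProduct.comm R M A).toLinearMap

theorem flipI_tmul (m : M) (a : A) : flipI (R := R) (m ⊗ₜ a) = HopfAlgebra.antipodeAlgHom R A a ⊗ₜ m := rfl

theorem flipS_flipI (x : M ⊗[R] A) : flipS (flipI x) = x := by
  induction x with
  | zero => simp
  | add x y hx hy => simp only [map_add, hx, hy]
  | tmul m a => rw [flipI_tmul, flipS_tmul, antipode_antipode]

theorem flipI_flipS (x : A ⊗[R] M) : flipI (flipS x) = x := by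
  induction x with
  | zero => simp
  | add x y hx hy => simp only [map_add, hx, hy]
  | tmul a m => rw [flipS_tmul, flipI_tmul, antipode_antipode]

variable [HopfRep.Comod R A M]

variable (R A) in
/-- The left coaction of a comodule. -/
noncomputable def coleft : M →ₗ[R] A ⊗[R] M := flipI ∘ₗ HopfRep.Comod.coact (k := R) (A := A)

theorem flipS_coleft (m : M) : flipS (coleft R A m) = HopfRep.Comod.coact (k := R) (A := A) m := flipS_flipI _

theorem coleft_coassoc (m : M) : (coleft R A).lTensor A (coleft R A m) =
    TensorProduct.assoc R A A M ((CoalgebraStruct.comul (R := R) (A := A)).rTensor M (coleft R A m)) := by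
  let L : A ⊗[R] (A ⊗[R] M) →ₗ[R] M ⊗[R] (A ⊗[R] A) :=
    (TensorProduct.assoc R M A A).toLinearMap ∘ₗ flipS ∘ₗ flipS.lTensor A
  have hL : Function.Injective L := by
    refine Function.LeftInverse.injective (g := flipI.lTensor A ∘ₗ flipI ∘ₗ (TensorProduct.assoc R M A A).symm.toLinearMap)
      fun x => ?_
    show flipI.lTensor A (flipI ((TensorProduct.assoc R M A A).symm (TensorProduct.assoc R M A A
      (flipS (flipS.lTensor A x))))) = x
    rw [LinearEquiv.symm_apply_apply, flipI_flipS]
    induction x with
    | zero => simp
    | add x y hx hy => simp only [map_add, hx, hy]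
    | tmul a y => rw [LinearMap.lTensor_tmul, LinearMap.lTensor_tmul, flipI_flipS]
  have h1 : ∀ x : A ⊗[R] M, TensorProduct.assoc R M A A ((flipS ∘ₗ coleft R A).rTensor A (flipS x)) =
      L ((coleft R A).lTensor A x) := fun x => by
    induction x with
    | zero => simp
    | add x y hx hy => simp only [map_add, hx, hy]
    | tmul a n => simp [L, flipS_tmul]
  have h2 : ∀ x : A ⊗[R] M, (CoalgebraStruct.comul (R := R) (A := A)).lTensor M (flipS x) =
      L (TensorProduct.assoc R A A M ((CoalgebraStruct.comul (R := R) (A := A)).rTensor M x)) := fun x => by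
    induction x with
    | zero => simp
    | add x y hx hy => simp only [map_add, hx, hy]
    | tmul a n =>
      rw [flipS_tmul, LinearMap.lTensor_tmul, comul_antipode, LinearMap.rTensor_tmul]
      generalize CoalgebraStruct.comul (R := R) (A := A) a = t
      induction t with
      | zero => simp
      | add x y hx hy => simp only [add_tmul, map_add, tmul_add, hx, hy]
      | tmul a₁ a₂ => simp [L, flipS_tmul]
  apply hL
  rw [← h1, ← h2]
  have e : flipS ∘ₗ coleft R A = HopfRep.Comod.coact (k := R) (A := A) (V := M) := LinearMap.ext flipS_coleft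
  rw [e, flipS_coleft]
  exact LinearMap.congr_fun (HopfRep.Comod.coassoc (k := R) (A := A) (V := M)) m

theorem coleft_counit (m : M) :
    (CoalgebraStruct.counit (R := R) (A := A)).rTensor M (coleft R A m) = 1 ⊗ₜ m := by
  have h : ∀ x : A ⊗[R] M, (CoalgebraStruct.counit (R := R) (A := A)).lTensor M (flipS x) =
      TensorProduct.comm R R M ((CoalgebraStruct.counit (R := R) (A := A)).rTensor M x) := fun x => by
    induction x with
    | zero => simp
    | add x y hx hy => simp only [map_add, hx, hy]
    | tmul a n =>
      rw [flipS_tmul, LinearMap.lTensor_tmul, LinearMap.rTensor_tmul, TensorProduct.comm_tmul]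
      congr 1
      exact HopfAlgebra.counit_antipode a
  apply (TensorProduct.comm R R M).injective
  rw [← h, flipS_coleft]
  exact LinearMap.congr_fun (HopfRep.Comod.counit_comp (k := R) (A := A) (V := M)) m

variable {B : Type u} [CommRing B] [Algebra R B] [HopfRep.Comod R A B] [GLin.IsCoactAlg R A B]
  [Module B M] [IsScalarTower R B M] [TameAct.IsHopfMod R A B M]

theorem coleft_smul (b : B) (m : M) : coleft R A (b • m) = act2 (actHom R A B b) (coleft R A m) := by
  apply flipS_injective
  rw [flipS_coleft, TameAct.IsHopfMod.coact_smul, ← flipS_coleft m, ← flipS_actHom b]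
  generalize actHom R A B b = t
  generalize coleft R A m = s
  induction t with
  | zero => simp
  | add x y hx hy => simp only [map_add, LinearMap.add_apply, hx, hy]
  | tmul a b' =>
    induction s with
    | zero => simp
    | add x y hx hy => simp only [map_add, hx, hy]
    | tmul a' n => simp [flipS_tmul, map_mul]

/-- A comodule map commutes with the left coactions. -/
theorem coleft_natural {N : Type u} [AddCommGroup N] [Module R N] [HopfRep.Comod R A N] {f : M →ₗ[R] N}
    (hf : Hoch.IsComodHom A f) (m : M) : coleft R A (f m) = f.lTensor A (coleft R A m) := by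
  apply flipS_injective
  rw [flipS_coleft]
  refine (LinearMap.congr_fun hf m).trans ?_
  show f.rTensor A (HopfRep.Comod.coact (k := R) (A := A) m) = _
  rw [← flipS_coleft m]
  generalize coleft R A m = s
  induction s with
  | zero => simp
  | add x y hx hy => simp only [map_add, hx, hy]
  | tmul a n => simp [flipS_tmul]

theorem mem_fixedPts_iff_coleft (m : M) :
    m ∈ HopfRep.fixedPts R A M ↔ coleft R A m = (1 : A) ⊗ₜ m := by
  show HopfRep.Comod.coact (k := R) (A := A) m = m ⊗ₜ[R] (1 : A) ↔ _
  rw [← flipS_coleft m, ← flipS_injective.eq_iff (b := (1 : A) ⊗ₜ[R] m), flipS_tmul, map_one]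

end Groth.Agent.H14.QuotHopf
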