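import Groth.Agent.H14.QuotHopf.ToComod
import Groth.Agent.H14.QuotGood.Main

/-!
Exactness of invariants makes the map from the quotient to the invariant spectrum cohomologically affine.
-/

set_option autoImplicit false
set_option backward.isDefEq.respectTransparency false
set_option backward.isDefEq.respectTransparency.types false
set_option linter.style.haveILetI false

universe u

open CategoryTheory MonoidalCategory CartesianMonoidalCategory MonObj AlgebraicGeometry
open StMod (sch bmap fibCat etaOf)
open AlgSt (QuotObj QuotSt ofSch)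
open AlgSp (yon)
open CoactBr
open Groth.Agent.Lib.QuotSt
open Groth.Agent.H14.QuotGood
open Groth.Agent.H14.GenFam

namespace Groth.Agent.H14.QuotHopf

/-- An affine etale neighbourhood of a scheme maps to the tautological object by an etale map. -/
theorem exists_toTop_etale {S : Scheme.{u}} (Y : Over S) (E : AlgSp.EtOver ((yon S).obj Y)) :
    ∃ c : etaOf E ⟶ topObj Y, Etale (bmap (ofSch Y) c) := by
  obtain ⟨g, hg⟩ := (yon S).map_surjective E.obj.hom
  refine ⟨toTop _, ?_⟩
  have e : (etaOf E).sec.down = g := by
    show ((AlgSp.J _).uliftYonedaEquiv E.obj.hom).down = g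
    rw [← hg]
    exact Category.id_comp g
  show Etale (etaOf E).sec.down.left
  rw [e]
  exact (AlgSp.repWith_yon_map_iff _ _).1 (by rw [hg]; exact E.property)

variable {R A B : Type u} [CommRing R] [CommRing A] [CommRing B] [HopfAlgebra R A] [Module.Flat R A]
  [Algebra R B] [HopfRep.Comod R A B] [GLin.IsCoactAlg R A B]

theorem flat_sp : Flat (sp R A).hom := by
  show Flat (Spec.map (CommRingCat.ofHom (algebraMap R A)))
  rw [Flat.SpecMap_iff]
  exact RingHom.flat_algebraMap_iff.2 ‹_›

/-- If invariants are exact on relative Hopf modules, then a functor from the quotient to an affine scheme is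
cohomologically affine. -/
theorem isCohAffine_of_exact (h𝒳 : FibCat.IsFibGrpd (QS R A B).p) {Y : Over (Spec (CommRingCat.of R))} [IsAffine Y.left]
    (hM : FibCat.IsFibGrpd (ofSch Y).p) (ρ : QS R A B ⥤ᵇ ofSch Y)
    (hex : ∀ (M N : Type u) [AddCommGroup M] [Module R M] [Module B M] [IsScalarTower R B M]
      [HopfRep.Comod R A M] [TameAct.IsHopfMod R A B M]
      [AddCommGroup N] [Module R N] [Module B N] [IsScalarTower R B N]
      [HopfRep.Comod R A N] [TameAct.IsHopfMod R A B N] (f : M →ₗ[B] N),
      Hoch.IsComodHom A (f.restrictScalars R) → Function.Surjective f →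
        ∀ n ∈ HopfRep.fixedPts R A N, ∃ m ∈ HopfRep.fixedPts R A M, f m = n) :
    StMod.IsCohAffine ρ := by
  intro F G u hu E hE
  haveI : IsAffineHom (sp R A).hom := inferInstance
  haveI : Flat (sp R A).hom := flat_sp
  obtain ⟨c, hc⟩ := exists_toTop_etale Y E
  haveI : IsAffine (sch (ofSch Y) (etaOf E)) := hE
  haveI : IsAffine (sch (ofSch Y) (topObj Y)) := ‹IsAffine Y.left›
  haveI : Flat (bmap (ofSch Y) c) := have := hc; inferInstance
  refine relSectMap_surjective hM u
    (fibChart ρ (quotChart (action R A B) Scheme.fppfPrecoverage_le_fpqcPrecoverage)) c h𝒳 fun z hz => ?_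
  have hz' : (show Val G from z) ∈ HopfRep.fixedPts R A (Val G) := (mem_fixedPts_iff (F := G) z).2 hz
  obtain ⟨v, hv, hvz⟩ := hex (Val F) (Val G) (valMap u) (isComodHom_valMap u) (hu (xo R A B) inferInstance) z hz'
  exact ⟨v, (mem_fixedPts_iff (F := F) v).1 hv, hvz⟩

end Groth.Agent.H14.QuotHopf
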