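import Groth.Agent.H14.QuotGood.Chart

/-!
The action groupoid classifies pairs and composable pairs of maps to the chart of a quotient category.
-/

set_option autoImplicit false
set_option backward.isDefEq.respectTransparency false
set_option backward.isDefEq.respectTransparency.types false
set_option linter.style.haveILetI false

universe u

open CategoryTheory CategoryTheory.Limits MonoidalCategory CartesianMonoidalCategory MonObj AlgebraicGeometry
open StMod (sch bmap)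
open AlgSt (QuotObj QuotSt leftMul)
open Groth.Agent.Lib Groth.Agent.Lib.QuotSt
open Groth.Agent.H14.GenFam
open Groth.Agent.H14.QuotGood

namespace Groth.Agent.H14.QuotHopf

variable {S : Scheme.{u}} {K : Precoverage Scheme.{u}} [K.HasIsos] [K.IsStableUnderBaseChange]
  {G X : Over S} [GrpObj G] (aX : AlgGrp.Action G X)

/-- The base of a morphism to the action groupoid. -/
noncomputable abbrev bs {T : Over S} {y : T ⟶ X} (c : trivObj K aX y ⟶ w₀ K aX) : T ⟶ G ⊗ X := c.base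

theorem point_comp_pW {T : Over S} {y : T ⟶ X} (c : trivObj K aX y ⟶ w₀ K aX) :
    point (c ≫ pW K aX) = lift ((point c ≫ fst G (G ⊗ X)) * (bs aX c ≫ fst G X)) (bs aX c ≫ snd G X) := by
  have hc : point c = lift (point c ≫ fst G (G ⊗ X)) (bs aX c) := by
    apply CartesianMonoidalCategory.hom_ext
    · exact (lift_fst _ _).symm
    · rw [lift_snd]; exact point_π c
  rw [comp_point aX c _ hc, pW, point_toX, lift_fst_snd, Category.comp_id]
  change lift _ (bs aX c) ≫ (leftMul G X).act = _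
  conv_lhs => rw [show bs aX c = lift (bs aX c ≫ fst G X) (bs aX c ≫ snd G X) by
    rw [← comp_lift, lift_fst_snd, Category.comp_id]]
  rw [lift_leftMul]

theorem point_comp_qW {T : Over S} {y : T ⟶ X} (c : trivObj K aX y ⟶ w₀ K aX) :
    point (c ≫ qW K aX) = lift (point c ≫ fst G (G ⊗ X)) (bs aX c ≫ aX.act) := by
  have hc : point c = lift (point c ≫ fst G (G ⊗ X)) (bs aX c) := by
    apply CartesianMonoidalCategory.hom_ext
    · exact (lift_fst _ _).symm
    · rw [lift_snd]; exact point_π c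
  rw [comp_point aX c _ hc, qW, point_toX, comp_lift, MonObj.comp_one]
  change lift (point c ≫ fst G (G ⊗ X)) (lift 1 (bs aX c ≫ aX.act)) ≫ (leftMul G X).act = _
  rw [lift_leftMul, _root_.mul_one]

/-- Maps to the action groupoid from a trivial object are determined by their composites. -/
theorem triv_pair_ext {T : Over S} {y : T ⟶ X} {c c' : trivObj K aX y ⟶ w₀ K aX}
    (hp : c ≫ pW K aX = c' ≫ pW K aX) (hq : c ≫ qW K aX = c' ≫ qW K aX) : c = c' := by
  have h1 := congrArg point hp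
  have h2 := congrArg point hq
  rw [point_comp_pW, point_comp_pW] at h1
  rw [point_comp_qW, point_comp_qW] at h2
  have e1 := congrArg (· ≫ fst G X) h2
  simp only [lift_fst] at e1
  have e2 := congrArg (· ≫ fst G X) h1
  simp only [lift_fst] at e2
  rw [e1] at e2
  have e3 := congrArg (· ≫ snd G X) h1
  simp only [lift_snd] at e3
  have eb : bs aX c = bs aX c' := CartesianMonoidalCategory.hom_ext _ _ (mul_left_cancel e2) e3
  refine hom_ext_of_point (CartesianMonoidalCategory.hom_ext _ _ e1 ?_)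
  exact (point_π c).trans (eb.trans (point_π c').symm)

variable [IsAffineHom G.hom] [Flat G.hom] [IsAffine X.left]

/-- An object with a map to the chart is trivial over its base. -/
theorem exists_triv_iso (hfib : FibCat.IsFibGrpd (QuotSt K G aX).p) {o : (QuotSt K G aX).obj} (a : o ⟶ x₀ K aX) :
    ∃ (y : (QuotObj.base o) ⟶ X) (k : trivObj K aX y ⟶ o) (k' : o ⟶ trivObj K aX y),
      k' ≫ k = 𝟙 o ∧ k ≫ k' = 𝟙 _ ∧ k.base = 𝟙 _ := by
  obtain ⟨y, k, hk⟩ := exists_triv_of_map aX a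
  obtain ⟨k', hb, hk'⟩ := exists_hom_over (𝒳 := QuotSt K G aX) hfib (𝟙 o) k (𝟙 _) (by
    show 𝟙 _ ≫ k.base.left = (bmap (QuotSt K G aX) (𝟙 o))
    rw [hk, StMod.bmap_id]
    exact Category.id_comp _)
  refine ⟨y, k, k', hk', ?_, hk⟩
  refine AlgStack.BasedBasic.hom_eq_of_comp_eq hfib k (Over.OverMorphism.ext ?_) ?_
  · show bmap (QuotSt K G aX) (k ≫ k') = bmap (QuotSt K G aX) (𝟙 (trivObj K aX y))
    rw [StMod.bmap_comp, hb, StMod.bmap_id]
    show k.base.left ≫ 𝟙 _ = 𝟙 _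
    rw [hk]
    exact Category.comp_id _
  · rw [Category.assoc, hk', Category.comp_id, Category.id_comp]

/-- Two maps to the chart factor uniquely through the action groupoid. -/
theorem existsUnique_pair (hfib : FibCat.IsFibGrpd (QuotSt K G aX).p) {o : (QuotSt K G aX).obj}
    (a b : o ⟶ x₀ K aX) : ∃! c : o ⟶ w₀ K aX, c ≫ pW K aX = a ∧ c ≫ qW K aX = b := by
  obtain ⟨y, k, k', hk', hk, -⟩ := exists_triv_iso aX hfib a
  obtain ⟨ha, ea⟩ := eq_toX aX (k ≫ a)
  obtain ⟨hb, eb⟩ := eq_toX aX (k ≫ b)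
  obtain ⟨c, -, hcp, hcq⟩ := exists_pair aX ha hb
  refine ⟨k' ≫ c, ⟨?_, ?_⟩, fun c' hc' => ?_⟩
  · rw [Category.assoc, hcp.trans ea.symm, ← Category.assoc, hk', Category.id_comp]
  · rw [Category.assoc, hcq.trans eb.symm, ← Category.assoc, hk', Category.id_comp]
  · have : k ≫ c' = c := triv_pair_ext aX
      ((Category.assoc _ _ _).trans ((congrArg (k ≫ ·) hc'.1).trans (ea.trans hcp.symm)))
      ((Category.assoc _ _ _).trans ((congrArg (k ≫ ·) hc'.2).trans (eb.trans hcq.symm)))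
    rw [← this, ← Category.assoc, hk', Category.id_comp]

/-- The composable pairs of the action groupoid classify triples of maps to the chart. -/
theorem exists_tri (hfib : FibCat.IsFibGrpd (QuotSt K G aX).p) :
    ∃ (e d₁ d : trivObj K aX ((G ◁ aX.act) ≫ aX.act) ⟶ w₀ K aX),
      e.base = snd G (G ⊗ X) ∧
      d₁.base = lift (fst G (G ⊗ X) * (snd G (G ⊗ X) ≫ fst G X)) (snd G (G ⊗ X) ≫ snd G X) ∧
      d.base = G ◁ aX.act ∧
      d₁ ≫ pW K aX = e ≫ pW K aX ∧ d ≫ pW K aX = e ≫ qW K aX ∧ d ≫ qW K aX = d₁ ≫ qW K aX ∧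
      ∀ {o : (QuotSt K G aX).obj} (a b c : o ⟶ x₀ K aX),
        ∃ f : o ⟶ trivObj K aX ((G ◁ aX.act) ≫ aX.act),
          f ≫ e ≫ pW K aX = a ∧ f ≫ e ≫ qW K aX = b ∧ f ≫ d ≫ qW K aX = c := by
  let g := fst G (G ⊗ X)
  let h := snd G (G ⊗ X) ≫ fst G X
  let x := snd G (G ⊗ X) ≫ snd G X
  let hx := snd G (G ⊗ X) ≫ aX.act
  let y := (G ◁ aX.act) ≫ aX.act
  have hd : lift g hx = G ◁ aX.act := by
    apply CartesianMonoidalCategory.hom_ext
    · rw [lift_fst, whiskerLeft_fst]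
    · rw [lift_snd, whiskerLeft_snd]
  have h1 : lift g hx ≫ aX.act = y := by rw [hd]
  have hhx : lift h x ≫ aX.act = hx := by
    show lift (snd G (G ⊗ X) ≫ fst G X) _ ≫ _ = _
    rw [← comp_lift, lift_fst_snd, Category.comp_id]
  have h0 : lift (g * h) x ≫ aX.act = y := by rw [← h1, Act.mul_smul aX, hhx]
  obtain ⟨e, eb, ep, eq⟩ := exists_pair (K := K) aX (za := x) (zb := hx) h0 h1
  obtain ⟨d₁, d₁b, d₁p, d₁q⟩ := exists_pair (K := K) aX (za := x) h0 (Act.one_smul aX y)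
  obtain ⟨d, db, dp, dq⟩ := exists_pair (K := K) aX (za := hx) h1 (Act.one_smul aX y)
  refine ⟨e, d₁, d, ?_, ?_, ?_, d₁p.trans ep.symm, dp.trans eq.symm, dq.trans d₁q.symm, fun {o} a b c => ?_⟩
  · rw [eb, inv_mul_cancel_left, ← comp_lift, lift_fst_snd, Category.comp_id]
  · rw [d₁b, inv_one, _root_.one_mul]
  · rw [db, inv_one, _root_.one_mul, hd]
  obtain ⟨yo, k, k', hk', hk, -⟩ := exists_triv_iso aX hfib a
  obtain ⟨ha, ea⟩ := eq_toX aX (k ≫ a)
  obtain ⟨hb, ebb⟩ := eq_toX aX (k ≫ b)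
  obtain ⟨hc, ec⟩ := eq_toX aX (k ≫ c)
  generalize point (k ≫ a) ≫ fst G X = ga, (k ≫ a).base = za at ha ea
  generalize point (k ≫ b) ≫ fst G X = gb, (k ≫ b).base = zb at hb ebb
  generalize point (k ≫ c) ≫ fst G X = gc, (k ≫ c).base = zc at hc ec
  have hz : lift (gb⁻¹ * ga) za ≫ aX.act = zb := by
    rw [Act.mul_smul aX, ha, ← hb, ← Act.mul_smul aX, inv_mul_cancel, Act.one_smul]
  have hz' : lift (gc⁻¹ * gb) zb ≫ aX.act = zc := by
    rw [Act.mul_smul aX, hb, ← hc, ← Act.mul_smul aX, inv_mul_cancel, Act.one_smul]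
  let t := lift (gc⁻¹ * gb) (lift (gb⁻¹ * ga) za)
  have ht : t ≫ y = zc := by
    show lift _ _ ≫ (G ◁ aX.act) ≫ aX.act = _
    rw [lift_whiskerLeft_assoc, hz, hz']
  let f₀ : trivObj K aX yo ⟶ trivObj K aX y :=
    ofPoint yo t (lift gc t) (lift_snd _ _) (by
      change lift gc t ≫ (G ◁ y) ≫ aX.act = yo
      rw [lift_whiskerLeft_assoc, ht, hc])
  have hf : point f₀ = lift gc t := point_ofPoint _ _ _ _ _
  have tg : t ≫ g = gc⁻¹ * gb := lift_fst _ _
  have th : t ≫ h = gb⁻¹ * ga := by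
    show lift (gc⁻¹ * gb) (lift (gb⁻¹ * ga) za) ≫ snd G (G ⊗ X) ≫ fst G X = _
    rw [← Category.assoc, lift_snd]; exact lift_fst _ _
  have tx : t ≫ x = za := by
    show lift (gc⁻¹ * gb) (lift (gb⁻¹ * ga) za) ≫ snd G (G ⊗ X) ≫ snd G X = _
    rw [← Category.assoc, lift_snd, lift_snd]
  have thx : t ≫ hx = zb := by
    show lift (gc⁻¹ * gb) (lift (gb⁻¹ * ga) za) ≫ snd G (G ⊗ X) ≫ aX.act = _
    rw [← Category.assoc, lift_snd, hz]
  have key : ∀ (g' : (G ⊗ (G ⊗ X)) ⟶ G) (z' : (G ⊗ (G ⊗ X)) ⟶ X) (h' : lift g' z' ≫ aX.act = y) (gg : o.base ⟶ G)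
      (zz : o.base ⟶ X) (hh : lift gg zz ≫ aX.act = yo) (m : o ⟶ x₀ K aX),
      k ≫ m = toX K aX gg zz hh → gc * (t ≫ g') = gg → t ≫ z' = zz →
        (k' ≫ f₀) ≫ toX K aX g' z' h' = m := fun g' z' h' gg zz hh m hm h₂ h₃ => by
    have : f₀ ≫ toX K aX g' z' h' = k ≫ m := by
      rw [hm]
      refine hom_ext_of_point ?_
      rw [comp_point aX f₀ _ hf, point_toX, point_toX, comp_lift, h₃]
      change lift gc (lift (t ≫ g') zz) ≫ (leftMul G X).act = _
      rw [lift_leftMul, h₂]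
    rw [Category.assoc, this, ← Category.assoc, hk', Category.id_comp]
  refine ⟨k' ≫ f₀, ?_, ?_, ?_⟩
  · rw [ep]
    refine key _ _ h0 ga za ha a ea ?_ tx
    rw [MonObj.comp_mul, tg, th, ← _root_.mul_assoc, mul_inv_cancel_left, mul_inv_cancel_left]
  · rw [eq]
    refine key _ _ h1 gb zb hb b ebb ?_ thx
    rw [tg, mul_inv_cancel_left]
  · rw [dq]
    refine key _ _ (Act.one_smul aX y) gc zc hc c ec ?_ ht
    rw [MonObj.comp_one, _root_.mul_one]

end Groth.Agent.H14.QuotHopf
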