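import Groth.Agent.H14.QuotHopf.Left
import Groth.Agent.H14.QuotHopf.Pair
import Groth.Agent.H14.QuotHopf.KExt
import Groth.Agent.H14.QuotHopf.OfExact

/-!
The comparison maps on extensions of a relative Hopf module along maps to the chart of the quotient.
-/

set_option autoImplicit false
set_option backward.isDefEq.respectTransparency false
set_option backward.isDefEq.respectTransparency.types false
set_option linter.style.haveILetI false

universe u

open CategoryTheory MonoidalCategory CartesianMonoidalCategory MonObj AlgebraicGeometry TensorProduct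
open Algebra.TensorProduct (includeLeft includeRight)
open StMod (sch bmap)
open AlgSt (QuotObj QuotSt)
open CoactBr
open Groth.Agent.Lib.QuotSt
open Groth.Agent.H14.QuotGood
open Groth.Agent.H14.ModDesc
open Groth.Agent.H14.GenFam (Chart Ext isBC_mk sl_ext bc_induction bc_extend bmap_hom_comp)

namespace Groth.Agent.H14.QuotHopf

variable {R A B : Type u} [CommRing R] [CommRing A] [CommRing B] [HopfAlgebra R A] [Module.Flat R A]
  [Algebra R B] [HopfRep.Comod R A B] [GLin.IsCoactAlg R A B]

instance instFlatSp : Flat (sp R A).hom := flat_sp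

variable (R A B) in
/-- The chart of the quotient. -/
noncomputable abbrev QC : Chart (QS R A B) := quotChart (action R A B) Scheme.fppfPrecoverage_le_fpqcPrecoverage

/-- A module over the functions on the space acted upon. -/
def HM (_ : Type u) (M : Type u) : Type u := M

variable {M : Type u} [AddCommGroup M] [Module R M] [Module B M] [IsScalarTower R B M]

noncomputable instance : AddCommGroup (HM B M) := inferInstanceAs (AddCommGroup M)

noncomputable instance : Module B (HM B M) := inferInstanceAs (Module B M)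

noncomputable instance : Module R (HM B M) := inferInstanceAs (Module R M)

instance : IsScalarTower R B (HM B M) := inferInstanceAs (IsScalarTower R B M)

noncomputable instance : Module Γ((sp R B).left, ⊤) (HM B M) := Module.compHom _ (gam R B).toRingHom

noncomputable instance : Module Γ(sch (QS R A B) (QC R A B).x, ⊤) (HM B M) :=
  inferInstanceAs (Module Γ((sp R B).left, ⊤) (HM B M))

noncomputable instance : Module Γ(sch (QS R A B) (xo R A B), ⊤) (HM B M) :=
  inferInstanceAs (Module Γ((sp R B).left, ⊤) (HM B M))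

variable (R A B M) in
/-- The extension along a map to the chart. -/
abbrev EM {z : (QS R A B).obj} (a : z ⟶ xo R A B) : Type u := KM (QC R A B) (HM B M) a

variable (R A B M) in
/-- The unit. -/
noncomputable abbrev um {z : (QS R A B).obj} (a : z ⟶ xo R A B) : HM B M →+ EM R A B M a := kUnit (QC R A B) (HM B M) a

theorem exists_eE : ∃ e : EM R A B M (po R A B) ≃+ A ⊗[R] HM B M,
    ∀ (c : Γ((sp R A ⊗ sp R B).left, ⊤)) (m : HM B M),
      e ((show Γ(sch (QS R A B) (wo R A B), ⊤) from c) • um R A B M (po R A B) m) = tm (gam2 R A B c) m :=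
  exists_tensorBC (M := HM B M) (B₀ := Γ((sp R B).left, ⊤)) (C' := Γ((sp R A ⊗ sp R B).left, ⊤)) (gam R B) (fun _ _ => rfl)
    (N := EM R A B M (po R A B)) (gam2 R A B) (φ := (bmap (QS R A B) (po R A B)).appTop.hom)
    (fun b => gam2_comp (m := snd (sp R A) (sp R B)) pr_snd b) (g := um R A B M (po R A B))
    (isBC_mk _ _)

/-- The extension along the first projection. -/
noncomputable def eE : EM R A B M (po R A B) ≃+ A ⊗[R] HM B M := exists_eE.choose

theorem eE_smul (c : Γ(sch (QS R A B) (wo R A B), ⊤)) (m : HM B M) :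
    eE (c • um R A B M (po R A B) m) = tm (gam2 R A B c) m :=
  exists_eE.choose_spec c m

theorem eE_p (m : HM B M) : eE (um R A B M (po R A B) m) = (1 : A) ⊗ₜ m := by
  conv_lhs => rw [← one_smul Γ(sch (QS R A B) (wo R A B), ⊤) (um R A B M (po R A B) m)]
  rw [eE_smul, map_one, Algebra.TensorProduct.one_def, tm_tmul, one_smul]

theorem eE_mul (c : Γ(sch (QS R A B) (wo R A B), ⊤)) (ξ : EM R A B M (po R A B)) :
    eE (c • ξ) = act2 (gam2 R A B c) (eE ξ) := by
  refine bc_induction (isBC_mk (bmap (QS R A B) (po R A B)).appTop.hom (HM B M))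
    (P := fun ξ => eE (c • ξ) = act2 (gam2 R A B c) (eE ξ)) ?_
    (fun x y hx hy => by simp only [smul_add, map_add, hx, hy]) (fun c' m => ?_) ξ
  · simp
  · show eE (c • c' • um R A B M (po R A B) m) = act2 _ (eE (c' • um R A B M (po R A B) m))
    rw [smul_smul, eE_smul, eE_smul, act2_tm]
    exact congrArg (fun t => tm t m) (map_mul (gam2 R A B) c c')

variable [HopfRep.Comod R A M]

noncomputable instance : HopfRep.Comod R A (HM B M) := inferInstanceAs (HopfRep.Comod R A M)

variable [TameAct.IsHopfMod R A B M]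

instance : TameAct.IsHopfMod R A B (HM B M) := inferInstanceAs (TameAct.IsHopfMod R A B M)

/-- The transport at the action groupoid. -/
noncomputable def th0 : HM B M →+ EM R A B M (po R A B) :=
  eE.symm.toAddMonoidHom.comp (coleft R A).toAddMonoidHom

theorem eE_th0 (m : HM B M) : eE (th0 m) = coleft R A m := eE.apply_symm_apply _

theorem th0_sl : IsSL (bmap (QS R A B) (qo R A B)).appTop.hom (th0 (R := R) (A := A) (B := B) (M := M)) := by
  intro (r : Γ((sp R B).left, ⊤)) m
  apply eE.injective
  rw [eE_mul, eE_th0, eE_th0]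
  show coleft R A (gam R B r • m) = _
  rw [coleft_smul]
  exact congrArg (fun t => act2 t (coleft R A m)) (gam2_comp (m := (action R A B).act) pr_act r).symm

section Pair

variable (h𝒳 : FibCat.IsFibGrpd (QS R A B).p)

/-- The map to the action groupoid given by two maps to the chart. -/
noncomputable def pairMap {z : (QS R A B).obj} (a b : z ⟶ xo R A B) : z ⟶ wo R A B :=
  (existsUnique_pair (K := Scheme.fppfPrecoverage) (action R A B) h𝒳 a b).exists.choose

theorem pairMap_p {z : (QS R A B).obj} (a b : z ⟶ xo R A B) : pairMap h𝒳 a b ≫ po R A B = a :=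
  (existsUnique_pair (K := Scheme.fppfPrecoverage) (action R A B) h𝒳 a b).exists.choose_spec.1

theorem pairMap_q {z : (QS R A B).obj} (a b : z ⟶ xo R A B) : pairMap h𝒳 a b ≫ qo R A B = b :=
  (existsUnique_pair (K := Scheme.fppfPrecoverage) (action R A B) h𝒳 a b).exists.choose_spec.2

theorem pairMap_eq {z : (QS R A B).obj} {a b : z ⟶ xo R A B} {c : z ⟶ wo R A B} (hp : c ≫ po R A B = a)
    (hq : c ≫ qo R A B = b) : c = pairMap h𝒳 a b :=
  (existsUnique_pair (K := Scheme.fppfPrecoverage) (action R A B) h𝒳 a b).unique ⟨hp, hq⟩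
    ⟨pairMap_p h𝒳 a b, pairMap_q h𝒳 a b⟩

theorem exists_kapv {z : (QS R A B).obj} [IsAffine (sch (QS R A B) z)] (a b : z ⟶ xo R A B) :
    ∃ K : EM R A B M b →ₗ[Γ(sch (QS R A B) z, ⊤)] EM R A B M a, ∀ m,
      K (um R A B M b m) = resK (C := QC R A B) (pairMap h𝒳 a b) (pairMap_p h𝒳 a b) (th0 m) :=
  bc_extend (isBC_mk (bmap (QS R A B) b).appTop.hom (HM B M))
    ((resK (C := QC R A B) (pairMap h𝒳 a b) (pairMap_p h𝒳 a b)).comp th0) fun r m => by
      show resK (C := QC R A B) (pairMap h𝒳 a b) (pairMap_p h𝒳 a b) (th0 (r • m)) = _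
      rw [th0_sl, isSL_resK (C := QC R A B) (pairMap h𝒳 a b) (pairMap_p h𝒳 a b)]
      refine congrArg (fun k : Γ(sch (QS R A B) z, ⊤) => k • _) ?_
      rw [← RingHom.comp_apply, ← bmap_hom_comp, pairMap_q]

/-- The comparison. -/
noncomputable def kapv {z : (QS R A B).obj} [IsAffine (sch (QS R A B) z)] (a b : z ⟶ xo R A B) :
    EM R A B M b →ₗ[Γ(sch (QS R A B) z, ⊤)] EM R A B M a :=
  (exists_kapv h𝒳 a b).choose

theorem kapv_unit {z : (QS R A B).obj} [IsAffine (sch (QS R A B) z)] {a b : z ⟶ xo R A B} (c : z ⟶ wo R A B)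
    (hp : c ≫ po R A B = a) (hq : c ≫ qo R A B = b) (m : HM B M) :
    kapv h𝒳 a b (um R A B M b m) = resK (C := QC R A B) c hp (th0 m) :=
  ((exists_kapv h𝒳 a b).choose_spec m).trans
    (resK_congr (C := QC R A B) (pairMap_eq h𝒳 hp hq).symm _ _ _)

theorem kapv_nat {z' z : (QS R A B).obj} [IsAffine (sch (QS R A B) z')] [IsAffine (sch (QS R A B) z)] (g : z' ⟶ z)
    {a b : z ⟶ xo R A B} {a' b' : z' ⟶ xo R A B} (ha : g ≫ a = a') (hb : g ≫ b = b') (v : EM R A B M b) :
    resK (C := QC R A B) g ha (kapv h𝒳 a b v) = kapv h𝒳 a' b' (resK (C := QC R A B) g hb v) := by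
  refine DFunLike.congr_fun (sl_ext (isBC_mk (bmap (QS R A B) b).appTop.hom (HM B M))
    (ψ := (bmap (QS R A B) g).appTop.hom) (F := (resK (C := QC R A B) g ha).comp (kapv h𝒳 a b).toAddMonoidHom)
    (G := (kapv h𝒳 a' b').toAddMonoidHom.comp (resK (C := QC R A B) g hb))
    (fun r m => ?_) (fun r m => ?_) fun s => ?_) v
  · show resK (C := QC R A B) g ha (kapv h𝒳 a b (r • m)) = _
    rw [map_smul, isSL_resK (C := QC R A B) g ha]
    rfl
  · show kapv h𝒳 a' b' (resK (C := QC R A B) g hb (r • m)) = _
    rw [isSL_resK (C := QC R A B) g hb, map_smul]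
    rfl
  · show resK (C := QC R A B) g ha (kapv h𝒳 a b (um R A B M b s)) =
      kapv h𝒳 a' b' (resK (C := QC R A B) g hb (um R A B M b s))
    rw [resK_unit, kapv_unit h𝒳 (pairMap h𝒳 a b) (pairMap_p h𝒳 a b) (pairMap_q h𝒳 a b),
      kapv_unit h𝒳 (g ≫ pairMap h𝒳 a b) (by rw [Category.assoc, pairMap_p, ha])
        (by rw [Category.assoc, pairMap_q, hb]),
      ← resK_comp (C := QC R A B) g (pairMap h𝒳 a b) (pairMap_p h𝒳 a b) ha]

end Pair

end Groth.Agent.H14.QuotHopf
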