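import Groth.Agent.H14.QuotHopf.Alg
import Groth.Agent.H14.QuotGood.Chart
import Groth.Agent.H14.GenFam.Chart
import Groth.Prelude.Def_W4c1tameactTame

/-!
The relative Hopf module of a quasi-coherent module on the quotient by an action of an affine group.
-/

set_option autoImplicit false
set_option backward.isDefEq.respectTransparency false
set_option backward.isDefEq.respectTransparency.types false
set_option linter.style.haveILetI false

universe u

open CategoryTheory MonoidalCategory CartesianMonoidalCategory MonObj AlgebraicGeometry TensorProduct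
open Algebra.TensorProduct (includeLeft includeRight)
open StMod (sch bmap)
open AlgSt (QuotObj QuotSt)
open CoactBr
open Groth.Agent.Lib.QuotSt
open Groth.Agent.H14.QuotGood
open Groth.Agent.H14.ModDesc
open Groth.Agent.H14.GenFam

namespace Groth.Agent.H14.QuotHopf

variable {R A B : Type u} [CommRing R] [CommRing A] [CommRing B] [HopfAlgebra R A]
  [Algebra R B] [HopfRep.Comod R A B] [GLin.IsCoactAlg R A B]

variable (R A B) in
/-- The quotient category. -/
noncomputable abbrev QS : AlgSt.Cat (Spec (CommRingCat.of R)) := QuotSt Scheme.fppfPrecoverage (sp R A) (action R A B)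

variable (R A B) in
/-- The chart. -/
noncomputable abbrev xo : (QS R A B).obj := x₀ Scheme.fppfPrecoverage (action R A B)

variable (R A B) in
/-- The relation. -/
noncomputable abbrev wo : (QS R A B).obj := w₀ Scheme.fppfPrecoverage (action R A B)

variable (R A B) in
/-- First projection. -/
noncomputable abbrev po : wo R A B ⟶ xo R A B := pW Scheme.fppfPrecoverage (action R A B)

variable (R A B) in
/-- Second projection. -/
noncomputable abbrev qo : wo R A B ⟶ xo R A B := qW Scheme.fppfPrecoverage (action R A B)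

instance : IsAffine (sch (QS R A B) (xo R A B)) := inferInstanceAs (IsAffine (Spec (CommRingCat.of B)))

instance : IsAffineHom (sp R A).hom := inferInstanceAs (IsAffineHom (Spec.map (CommRingCat.ofHom (algebraMap R A))))

instance : IsAffine (sp R B).left := inferInstanceAs (IsAffine (Spec (CommRingCat.of B)))

instance : IsAffine (sch (QS R A B) (wo R A B)) := inferInstanceAs (IsAffine (sp R A ⊗ sp R B).left)

/-- The coaction on `B` in terms of the action. -/
theorem flipS_actHom (b : B) : flipS (actHom R A B b) = HopfRep.Comod.coact (k := R) (A := A) b := by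
  show flipS ((Algebra.TensorProduct.lift _ _ fun _ _ => .all _ _) (HopfRep.Comod.coact (k := R) (A := A) b)) = _
  generalize HopfRep.Comod.coact (k := R) (A := A) b = t
  induction t with
  | zero => simp
  | add x y hx hy => rw [map_add, map_add, hx, hy]
  | tmul b a => simpa [flipS_tmul] using congrArg (b ⊗ₜ[R] ·) (antipode_antipode A a)

variable (F : StMod.QCoh (QS R A B))

/-- The sections at the chart. -/
def Val : Type u := Γ(F.obj.obj (xo R A B), ⊤)

noncomputable instance : AddCommGroup (Val F) := inferInstanceAs (AddCommGroup Γ(F.obj.obj (xo R A B), ⊤))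

noncomputable instance : Module Γ((sp R B).left, ⊤) (Val F) :=
  inferInstanceAs (Module Γ(sch (QS R A B) (xo R A B), ⊤) Γ(F.obj.obj (xo R A B), ⊤))

noncomputable instance : Module B (Val F) := Module.compHom _ (gam R B).symm.toRingHom

noncomputable instance : Module R (Val F) := Module.compHom _ ((gam R B).symm.toRingHom.comp (algebraMap R B))

instance : IsScalarTower R B (Val F) := IsScalarTower.of_algebraMap_smul fun _ _ => rfl

theorem gam_smul (b : Γ((sp R B).left, ⊤)) (m : Val F) : b • m = gam R B b • m := by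
  show b • m = (gam R B).symm (gam R B b) • m
  rw [RingEquiv.symm_apply_apply]

/-- Pullback along a map to the chart. -/
noncomputable def pull {o : (QS R A B).obj} (f : o ⟶ xo R A B) : Val F →+ Γ(F.obj.obj o, ⊤) := mapHom F.obj f

theorem exists_eW : ∃ e : Γ(F.obj.obj (wo R A B), ⊤) ≃+ A ⊗[R] Val F,
    ∀ (c : Γ((sp R A ⊗ sp R B).left, ⊤)) (m : Val F),
      e ((show Γ(sch (QS R A B) (wo R A B), ⊤) from c) • pull F (po R A B) m) = tm (gam2 R A B c) m :=
  exists_tensorBC (M := Val F) (B₀ := Γ((sp R B).left, ⊤)) (C' := Γ((sp R A ⊗ sp R B).left, ⊤)) (gam R B) (gam_smul F)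
    (N := Γ(F.obj.obj (wo R A B), ⊤)) (gam2 R A B) (φ := (bmap (QS R A B) (po R A B)).appTop.hom)
    (fun b => gam2_comp (m := snd (sp R A) (sp R B)) pr_snd b) (g := pull F (po R A B))
    (isBC_mapHom F (po R A B))

/-- Functions on the relation. -/
noncomputable def eW : Γ(F.obj.obj (wo R A B), ⊤) ≃+ A ⊗[R] Val F := (exists_eW F).choose

theorem eW_smul (c : Γ(sch (QS R A B) (wo R A B), ⊤)) (m : Val F) :
    eW F (c • pull F (po R A B) m) = tm (gam2 R A B c) m :=
  (exists_eW F).choose_spec c m

theorem eW_p (m : Val F) : eW F (pull F (po R A B) m) = (1 : A) ⊗ₜ m := by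
  conv_lhs => rw [← one_smul Γ(sch (QS R A B) (wo R A B), ⊤) (pull F (po R A B) m)]
  rw [eW_smul, map_one, Algebra.TensorProduct.one_def, tm_tmul, one_smul]

theorem eW_mul (c : Γ(sch (QS R A B) (wo R A B), ⊤)) (ξ : Γ(F.obj.obj (wo R A B), ⊤)) :
    eW F (c • ξ) = act2 (gam2 R A B c) (eW F ξ) := by
  refine bc_induction (isBC_mapHom F (po R A B)) (P := fun ξ => eW F (c • ξ) = act2 (gam2 R A B c) (eW F ξ)) ?_
    (fun x y hx hy => by simp only [smul_add, map_add, hx, hy]) (fun c' (m : Val F) => ?_) ξ
  · simp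
  · show eW F (c • c' • pull F (po R A B) m) = act2 _ (eW F (c' • pull F (po R A B) m))
    rw [smul_smul, eW_smul, eW_smul, act2_tm]
    exact congrArg (fun t => tm t m) (map_mul (gam2 R A B) c c')

/-- The transport of a section along the action. -/
noncomputable def tr : Val F →ₗ[R] A ⊗[R] Val F where
  toFun m := eW F (pull F (qo R A B) m)
  map_add' m m' := by rw [map_add, map_add]
  map_smul' r m := by
    show eW F (F.obj.mapTop (qo R A B) ((gam R B).symm (algebraMap R B r) • (show Γ(F.obj.obj (xo R A B), ⊤) from m))) = _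
    rw [StMod.Mod.mapTop_smul, eW_mul]
    refine Eq.trans (congrArg (fun t => act2 t (eW F (pull F (qo R A B) m)))
      ((gam2_comp (m := (action R A B).act) pr_act _).trans (congrArg (actHom R A B) ((gam R B).apply_symm_apply _)))) ?_
    rw [AlgHom.commutes]
    generalize eW F (pull F (qo R A B) m) = t
    induction t with
    | zero => simp
    | add x y hx hy => rw [map_add, hx, hy, smul_add]
    | tmul a n =>
      rw [Algebra.TensorProduct.algebraMap_apply, act2_tmul, one_smul, smul_tmul', ← Algebra.smul_def]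
      rfl

theorem tr_smul (b : B) (m : Val F) : tr F (b • m) = act2 (actHom R A B b) (tr F m) := by
  show eW F (F.obj.mapTop (qo R A B) ((gam R B).symm b • (show Γ(F.obj.obj (xo R A B), ⊤) from m))) = _
  rw [StMod.Mod.mapTop_smul, eW_mul]
  exact congrArg (fun t => act2 t (eW F (pull F (qo R A B) m)))
    ((gam2_comp (m := (action R A B).act) pr_act _).trans (congrArg (actHom R A B) ((gam R B).apply_symm_apply _)))

theorem exists_triple' :
    ∃ (e d₁ d : trivObj Scheme.fppfPrecoverage (action R A B)
        ((sp R A ◁ (action R A B).act) ≫ (action R A B).act) ⟶ wo R A B),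
      e.base = snd (sp R A) (sp R A ⊗ sp R B) ∧
      d₁.base = lift (fst (sp R A) (sp R A ⊗ sp R B) * (snd (sp R A) (sp R A ⊗ sp R B) ≫ fst (sp R A) (sp R B)))
        (snd (sp R A) (sp R A ⊗ sp R B) ≫ snd (sp R A) (sp R B)) ∧
      d.base = sp R A ◁ (action R A B).act ∧
      d₁ ≫ po R A B = e ≫ po R A B ∧ d ≫ po R A B = e ≫ qo R A B ∧ d ≫ qo R A B = d₁ ≫ qo R A B := by
  let aX := action R A B
  let g := fst (sp R A) (sp R A ⊗ sp R B)
  let h := snd (sp R A) (sp R A ⊗ sp R B) ≫ fst (sp R A) (sp R B)
  let x := snd (sp R A) (sp R A ⊗ sp R B) ≫ snd (sp R A) (sp R B)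
  let hx := snd (sp R A) (sp R A ⊗ sp R B) ≫ aX.act
  let y := (sp R A ◁ aX.act) ≫ aX.act
  have hd : lift g hx = sp R A ◁ aX.act := by
    apply CartesianMonoidalCategory.hom_ext
    · rw [lift_fst, whiskerLeft_fst]
    · rw [lift_snd, whiskerLeft_snd]
  have h1 : lift g hx ≫ aX.act = y := by rw [hd]
  have h0 : lift (g * h) x ≫ aX.act = y := by
    rw [← h1, Act.mul_smul aX]
    congr 2
    show lift (snd (sp R A) (sp R A ⊗ sp R B) ≫ fst (sp R A) (sp R B)) _ ≫ _ = _
    rw [← comp_lift, lift_fst_snd, Category.comp_id]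
  obtain ⟨e, eb, ep, eq⟩ := exists_pair (K := Scheme.fppfPrecoverage) aX (za := x) (zb := hx) h0 h1
  obtain ⟨d₁, d₁b, d₁p, d₁q⟩ := exists_pair (K := Scheme.fppfPrecoverage) aX (za := x) h0 (Act.one_smul aX y)
  obtain ⟨d, db, dp, dq⟩ := exists_pair (K := Scheme.fppfPrecoverage) aX (za := hx) h1 (Act.one_smul aX y)
  refine ⟨e, d₁, d, ?_, ?_, ?_, d₁p.trans ep.symm, dp.trans eq.symm, dq.trans d₁q.symm⟩
  · rw [eb, inv_mul_cancel_left, ← comp_lift, lift_fst_snd, Category.comp_id]
  · rw [d₁b, inv_one, _root_.one_mul]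
  · rw [db, inv_one, _root_.one_mul, hd]

theorem pr3_whiskerLeft_act :
    pr3 R A B ≫ (sp R A ◁ (action R A B).act) =
      pt (Algebra.TensorProduct.map (AlgHom.id R A) (actHom R A B)) ≫ pr R A B := by
  have e1 : (Algebra.TensorProduct.map (AlgHom.id R A) (actHom R A B)).comp includeLeft = includeLeft :=
    AlgHom.ext fun a => by simp
  have e2 : (Algebra.TensorProduct.map (AlgHom.id R A) (actHom R A B)).comp includeRight =
      includeRight.comp (actHom R A B) := AlgHom.ext fun a => by simp
  rw [pr3_eq, lift_whiskerLeft, Category.assoc, pr_act]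
  conv_rhs => rw [pr, comp_lift, ← pt_comp, ← pt_comp, e1, e2]
  rw [← pt_comp]

variable (R A B) in
/-- The product on functions on the triple product. -/
noncomputable def mulHom : A ⊗[R] B →ₐ[R] A ⊗[R] (A ⊗[R] B) :=
  Algebra.TensorProduct.lift
    ((Algebra.TensorProduct.lift includeLeft (includeRight.comp includeLeft) fun _ _ => .all _ _).comp
      (Bialgebra.comulAlgHom R A))
    (includeRight.comp includeRight) fun _ _ => .all _ _

theorem pr3_mul :
    pr3 R A B ≫ lift (fst (sp R A) (sp R A ⊗ sp R B) * (snd (sp R A) (sp R A ⊗ sp R B) ≫ fst (sp R A) (sp R B)))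
      (snd (sp R A) (sp R A ⊗ sp R B) ≫ snd (sp R A) (sp R B)) = pt (mulHom R A B) ≫ pr R A B := by
  have e1 : (mulHom R A B).comp includeLeft =
      (Algebra.TensorProduct.lift includeLeft (includeRight.comp includeLeft) fun _ _ => .all _ _).comp
        (Bialgebra.comulAlgHom R A) := Algebra.TensorProduct.lift_comp_includeLeft _ _ _
  have e2 : (mulHom R A B).comp includeRight = includeRight.comp includeRight :=
    Algebra.TensorProduct.lift_comp_includeRight' _ _ _
  rw [comp_lift, MonObj.comp_mul, ← Category.assoc, ← Category.assoc, pr3_snd, Category.assoc, Category.assoc, pr_snd]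
  conv_rhs => rw [pr, comp_lift, ← pt_comp, ← pt_comp, e1, e2, ← pt_mul_pt]
  rw [pr3_eq, lift_fst, pr, lift_fst, ← pt_comp, ← pt_comp]

set_option maxHeartbeats 1000000 in
theorem tr_coassoc (m : Val F) :
    (tr F).lTensor A (tr F m) =
      TensorProduct.assoc R A A (Val F) ((CoalgebraStruct.comul (R := R) (A := A)).rTensor (Val F) (tr F m)) := by
  obtain ⟨e, d₁, d, eb, d₁b, db, h₁, h₂, h₃⟩ := exists_triple' (R := R) (A := A) (B := B)
  let w2 : (QS R A B).obj := trivObj Scheme.fppfPrecoverage (action R A B)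
    ((sp R A ◁ (action R A B).act) ≫ (action R A B).act)
  let C2 := Γ((sp R A ⊗ (sp R A ⊗ sp R B)).left, ⊤)
  haveI : IsAffine (sp R (A ⊗[R] (A ⊗[R] B))).left :=
    inferInstanceAs (IsAffine (Spec (CommRingCat.of (A ⊗[R] (A ⊗[R] B)))))
  haveI : IsAffine (sch (QS R A B) w2) := IsAffine.of_isIso (inv (pr3 R A B).left)
  let G : C2 ≃+* (A ⊗[R] A) ⊗[R] B :=
    (gam3 R A B).trans (Algebra.TensorProduct.assoc R R R A A B).symm.toRingEquiv
  have hGe : ∀ c : Γ((sp R A ⊗ sp R B).left, ⊤), G (e.base.left.appTop.hom c) =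
      (Algebra.TensorProduct.assoc R R R A A B).symm ((1 : A) ⊗ₜ gam2 R A B c) := fun c => by
    rw [eb]
    exact congrArg (Algebra.TensorProduct.assoc R R R A A B).symm
      (gam3_comp (m := snd (sp R A) (sp R A ⊗ sp R B)) pr3_snd c)
  have hGd₁ : ∀ c : Γ((sp R A ⊗ sp R B).left, ⊤), G (d₁.base.left.appTop.hom c) =
      (Algebra.TensorProduct.assoc R R R A A B).symm (mulHom R A B (gam2 R A B c)) := fun c => by
    rw [d₁b]
    exact congrArg (Algebra.TensorProduct.assoc R R R A A B).symm (gam3_comp pr3_mul c)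
  have hGd : ∀ c : Γ((sp R A ⊗ sp R B).left, ⊤), G (d.base.left.appTop.hom c) =
      (Algebra.TensorProduct.assoc R R R A A B).symm
        (Algebra.TensorProduct.map (AlgHom.id R A) (actHom R A B) (gam2 R A B c)) := fun c => by
    rw [db]
    exact congrArg (Algebra.TensorProduct.assoc R R R A A B).symm (gam3_comp pr3_whiskerLeft_act c)
  obtain ⟨e₃, he₃⟩ := exists_tensorBC (R := R) (A := A ⊗[R] A) (M := Val F) (B₀ := Γ((sp R B).left, ⊤)) (C' := C2)
    (gam R B) (gam_smul F) (N := Γ(F.obj.obj w2, ⊤)) G (φ := (bmap (QS R A B) (e ≫ po R A B)).appTop.hom)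
    (fun b => by
      rw [StMod.bmap_comp, appTop_comp_hom]
      refine (hGe ((bmap (QS R A B) (po R A B)).appTop.hom b)).trans ?_
      rw [show gam2 R A B ((bmap (QS R A B) (po R A B)).appTop.hom b) =
        (includeRight : B →ₐ[R] A ⊗[R] B) (gam R B b) from gam2_comp (m := snd (sp R A) (sp R B)) pr_snd b]
      simp [Algebra.TensorProduct.one_def])
    (g := pull F (e ≫ po R A B)) (isBC_mapHom F (e ≫ po R A B))
  have he₃mul : ∀ (γc : C2) (z : Γ(F.obj.obj w2, ⊤)),
      e₃ ((show Γ(sch (QS R A B) w2, ⊤) from γc) • z) = act2 (G γc) (e₃ z) := fun γc z => by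
    refine bc_induction (isBC_mapHom F (e ≫ po R A B))
      (P := fun z => e₃ ((show Γ(sch (QS R A B) w2, ⊤) from γc) • z) = act2 (G γc) (e₃ z)) ?_
      (fun x y hx hy => by simp only [smul_add, map_add, hx, hy]) (fun c' (m : Val F) => ?_) z
    · simp
    · show e₃ (_ • c' • pull F (e ≫ po R A B) m) = act2 _ (e₃ (c' • pull F (e ≫ po R A B) m))
      rw [smul_smul]
      refine (he₃ _ m).trans (Eq.trans ?_ (congrArg (act2 (G γc)) (he₃ c' m)).symm)
      rw [act2_tm]
      exact congrArg (fun t => tm t m) (map_mul G γc c')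
  have he₃e : ∀ ζ : Γ(F.obj.obj (wo R A B), ⊤), e₃ (F.obj.mapTop e ζ) =
      (TensorProduct.assoc R A A (Val F)).symm ((1 : A) ⊗ₜ eW F ζ) := fun ζ => by
    refine bc_induction (isBC_mapHom F (po R A B))
      (P := fun ζ => e₃ (F.obj.mapTop e ζ) = (TensorProduct.assoc R A A (Val F)).symm ((1 : A) ⊗ₜ eW F ζ)) ?_
      (fun x y hx hy => by simp only [StMod.Mod.mapTop_add, map_add, hx, hy, tmul_add]) (fun c (m : Val F) => ?_) ζ
    · simp [StMod.Mod.mapTop_zero]
    · show e₃ (F.obj.mapTop e (c • F.obj.mapTop (po R A B) m)) = _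
      rw [StMod.Mod.mapTop_smul, ← StMod.Mod.mapTop_comp]
      refine (he₃ _ m).trans ?_
      refine (congrArg (fun t => tm t m) (hGe c)).trans ?_
      refine Eq.trans ?_ (congrArg (fun t => (TensorProduct.assoc R A A (Val F)).symm ((1 : A) ⊗ₜ t)) (eW_smul F c m)).symm
      generalize gam2 R A B c = t
      induction t with
      | zero => simp [tm_zero_left]
      | add x y hx hy => simp only [tmul_add, map_add, tm_add_left, hx, hy]
      | tmul a b => simp [tm_tmul]
  have hA : ∀ ξ : Γ(F.obj.obj (wo R A B), ⊤), e₃ (F.obj.mapTop d₁ ξ) =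
      (CoalgebraStruct.comul (R := R) (A := A)).rTensor (Val F) (eW F ξ) := fun ξ => by
    refine bc_induction (isBC_mapHom F (po R A B))
      (P := fun ξ => e₃ (F.obj.mapTop d₁ ξ) = (CoalgebraStruct.comul (R := R) (A := A)).rTensor (Val F) (eW F ξ)) ?_
      (fun x y hx hy => by simp only [StMod.Mod.mapTop_add, map_add, hx, hy]) (fun c (m : Val F) => ?_) ξ
    · simp [StMod.Mod.mapTop_zero]
    · show e₃ (F.obj.mapTop d₁ (c • F.obj.mapTop (po R A B) m)) = _
      rw [StMod.Mod.mapTop_smul, ← StMod.Mod.mapTop_comp, h₁]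
      refine (he₃ _ m).trans ?_
      refine (congrArg (fun t => tm t m) (hGd₁ c)).trans ?_
      refine Eq.trans ?_ (congrArg _ (eW_smul F c m)).symm
      generalize gam2 R A B c = t
      induction t with
      | zero => simp [tm_zero_left]
      | add x y hx hy => simp only [map_add, tm_add_left, hx, hy]
      | tmul a b =>
        simp only [tm_tmul, LinearMap.rTensor_tmul, mulHom, Algebra.TensorProduct.lift_tmul, AlgHom.comp_apply,
          Bialgebra.comulAlgHom_apply]
        generalize CoalgebraStruct.comul (R := R) (A := A) a = t'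
        induction t' with
        | zero => simp [tm_zero_left]
        | add x y hx hy => simp only [map_add, add_mul, tm_add_left, add_tmul, hx, hy]
        | tmul a₁ a₂ => simp [tm_tmul]
  have hB : ∀ ξ : Γ(F.obj.obj (wo R A B), ⊤), e₃ (F.obj.mapTop d ξ) =
      (TensorProduct.assoc R A A (Val F)).symm ((tr F).lTensor A (eW F ξ)) := fun ξ => by
    refine bc_induction (isBC_mapHom F (po R A B))
      (P := fun ξ => e₃ (F.obj.mapTop d ξ) =
        (TensorProduct.assoc R A A (Val F)).symm ((tr F).lTensor A (eW F ξ))) ?_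
      (fun x y hx hy => by simp only [StMod.Mod.mapTop_add, map_add, hx, hy]) (fun c (m : Val F) => ?_) ξ
    · simp [StMod.Mod.mapTop_zero]
    · show e₃ (F.obj.mapTop d (c • F.obj.mapTop (po R A B) m)) = _
      rw [StMod.Mod.mapTop_smul, ← StMod.Mod.mapTop_comp, h₂, StMod.Mod.mapTop_comp]
      refine (he₃mul _ _).trans ?_
      refine (congrArg₂ (fun s t => act2 s t) (hGd c) (he₃e (F.obj.mapTop (qo R A B) m))).trans ?_
      refine Eq.trans ?_ (congrArg (fun t => (TensorProduct.assoc R A A (Val F)).symm ((tr F).lTensor A t))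
        (eW_smul F c m)).symm
      show act2 _ ((TensorProduct.assoc R A A (Val F)).symm ((1 : A) ⊗ₜ tr F m)) = _
      generalize gam2 R A B c = t
      induction t with
      | zero => simp [tm_zero_left]
      | add x y hx hy => simp only [map_add, LinearMap.add_apply, tm_add_left, hx, hy]
      | tmul a b =>
        simp only [tm_tmul, LinearMap.lTensor_tmul, Algebra.TensorProduct.map_tmul, AlgHom.coe_id, id_eq, tr_smul]
        generalize actHom R A B b = t'
        generalize tr F m = s
        induction t' with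
        | zero => simp
        | add x y hx hy => simp only [map_add, LinearMap.add_apply, tmul_add, hx, hy]
        | tmul a₁ b₁ =>
          induction s with
          | zero => simp
          | add x y hx hy => simp only [map_add, tmul_add, hx, hy]
          | tmul a₂ n => simp
  have key : e₃ (F.obj.mapTop d (pull F (qo R A B) m)) = e₃ (F.obj.mapTop d₁ (pull F (qo R A B) m)) := by
    show e₃ (F.obj.mapTop d (F.obj.mapTop (qo R A B) m)) = e₃ (F.obj.mapTop d₁ (F.obj.mapTop (qo R A B) m))
    rw [← StMod.Mod.mapTop_comp, ← StMod.Mod.mapTop_comp, h₃]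
  rw [hA, hB] at key
  exact (LinearEquiv.symm_apply_eq _).1 key

theorem tr_counit (m : Val F) :
    (CoalgebraStruct.counit (R := R) (A := A)).rTensor (Val F) (tr F m) = 1 ⊗ₜ m := by
  obtain ⟨s, sb, sp', sq⟩ := exists_pair (K := Scheme.fppfPrecoverage) (action R A B)
    (za := 𝟙 (sp R B)) (zb := 𝟙 (sp R B)) (Act.one_smul _ _) (Act.one_smul _ _)
  let s' : xo R A B ⟶ wo R A B := s
  have hsp : s' ≫ po R A B = 𝟙 _ := hom_ext_of_point (by
    refine (congrArg point (show s' ≫ po R A B = toX Scheme.fppfPrecoverage (action R A B) 1 (𝟙 _) _ from sp')).trans ?_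
    rw [point_toX]
    exact (Category.comp_id _).symm)
  have hsq : s' ≫ qo R A B = 𝟙 _ := hom_ext_of_point (by
    refine (congrArg point (show s' ≫ qo R A B = toX Scheme.fppfPrecoverage (action R A B) 1 (𝟙 _) _ from sq)).trans ?_
    rw [point_toX]
    exact (Category.comp_id _).symm)
  let εl : A ⊗[R] B →ₐ[R] B := Algebra.TensorProduct.lift ((Algebra.ofId R B).comp (Bialgebra.counitAlgHom R A))
    (AlgHom.id R B) fun _ _ => .all _ _
  have hs : ∀ c : Γ((sp R A ⊗ sp R B).left, ⊤), gam R B (s.base.left.appTop.hom c) = εl (gam2 R A B c) := fun c => by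
    have e : s.base = pt εl ≫ pr R A B := by
      rw [sb, inv_one, _root_.one_mul, pr, comp_lift, ← pt_comp, ← pt_comp,
        Algebra.TensorProduct.lift_comp_includeLeft, Algebra.TensorProduct.lift_comp_includeRight', ← one_eq_pt,
        pt_id]
    rw [e, Over.comp_left, Scheme.Hom.comp_appTop]
    exact gam_pt εl _
  let χ : A ⊗[R] Val F →ₗ[R] Val F :=
    TensorProduct.lift ((LinearMap.lsmul R (Val F)).comp (CoalgebraStruct.counit (R := R) (A := A)))
  have key : ∀ ξ : Γ(F.obj.obj (wo R A B), ⊤), (show Val F from F.obj.mapTop s' ξ) = χ (eW F ξ) := fun ξ => by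
    refine bc_induction (isBC_mapHom F (po R A B))
      (P := fun ξ => (show Val F from F.obj.mapTop s' ξ) = χ (eW F ξ)) ?_
      (fun x y hx hy => (StMod.Mod.mapTop_add F.obj s' x y).trans
        ((congrArg₂ (fun a b : Val F => a + b) hx hy).trans (by rw [map_add, map_add]))) (fun c (m : Val F) => ?_) ξ
    · exact (StMod.Mod.mapTop_zero F.obj s').trans (by rw [map_zero, map_zero])
    · show F.obj.mapTop s' (c • F.obj.mapTop (po R A B) m) = _
      rw [StMod.Mod.mapTop_smul, ← StMod.Mod.mapTop_comp, hsp, StMod.Mod.mapTop_id]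
      refine Eq.trans ?_ (congrArg χ (eW_smul F c m)).symm
      refine ((gam_smul F _ m).trans (congrArg (· • m) (hs c))).trans ?_
      generalize gam2 R A B c = t
      induction t with
      | zero => simp [tm_zero_left, zero_smul]
      | add x y hx hy => simp only [map_add, add_smul, tm_add_left, hx, hy]
      | tmul a b => simp [εl, χ, tm_tmul, mul_smul, algebraMap_smul]
  have h := key (pull F (qo R A B) m)
  have h' : (show Val F from F.obj.mapTop s' (pull F (qo R A B) m)) = m := by
    show F.obj.mapTop s' (F.obj.mapTop (qo R A B) m) = m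
    rw [← StMod.Mod.mapTop_comp, hsq, StMod.Mod.mapTop_id]
  have hm : χ (tr F m) = m := h.symm.trans h'
  conv_rhs => rw [← hm]
  generalize tr F m = t
  induction t with
  | zero => simp
  | add x y hx hy => simp only [map_add, tmul_add, hx, hy]
  | tmul a n => simp [χ, smul_tmul']

/-- The comodule. -/
noncomputable instance comodVal : HopfRep.Comod R A (Val F) := comodOfLeft (tr F) (tr_coassoc F) (tr_counit F)

theorem coact_eq (m : Val F) : HopfRep.Comod.coact (k := R) (A := A) m = flipS (tr F m) := rfl

instance : TameAct.IsHopfMod R A B (Val F) where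
  coact_smul b m := by
    rw [coact_eq, coact_eq, tr_smul, ← flipS_actHom b]
    generalize actHom R A B b = t
    generalize tr F m = s
    induction t with
    | zero => simp
    | add x y hx hy => simp only [map_add, LinearMap.add_apply, hx, hy]
    | tmul a b' =>
      induction s with
      | zero => simp
      | add x y hx hy => simp only [map_add, hx, hy]
      | tmul a' n => simp [flipS_tmul, map_mul]

variable {F} in
theorem mem_fixedPts_iff (m : Val F) :
    m ∈ HopfRep.fixedPts R A (Val F) ↔ pull F (po R A B) m = pull F (qo R A B) m := by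
  have h1 : flipS ((1 : A) ⊗ₜ[R] m) = m ⊗ₜ (1 : A) := by rw [flipS_tmul, map_one]
  rw [← (eW F).injective.eq_iff, eW_p]
  show HopfRep.Comod.coact (k := R) (A := A) m = m ⊗ₜ[R] (1 : A) ↔ (1 : A) ⊗ₜ m = tr F m
  rw [coact_eq, ← h1, flipS_injective.eq_iff, eq_comm]

variable {F} {G : StMod.QCoh (QS R A B)} (u : F ⟶ G)

/-- A morphism at the chart. -/
noncomputable def valMap : Val F →ₗ[B] Val G where
  toFun m := (u.hom.app (xo R A B)).app ⊤ m
  map_add' := map_add ((u.hom.app (xo R A B)).app ⊤).hom
  map_smul' b m := Scheme.Modules.Hom.app_smul (u.hom.app (xo R A B)) ((gam R B).symm b) m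

theorem eW_natural (ξ : Γ(F.obj.obj (wo R A B), ⊤)) :
    eW G ((u.hom.app (wo R A B)).app ⊤ ξ) = ((valMap u).restrictScalars R).lTensor A (eW F ξ) := by
  refine bc_induction (isBC_mapHom F (po R A B))
    (P := fun ξ => eW G ((u.hom.app (wo R A B)).app ⊤ ξ) = ((valMap u).restrictScalars R).lTensor A (eW F ξ)) ?_
    (fun x y hx hy => by simp only [map_add, hx, hy]) (fun c (m : Val F) => ?_) ξ
  · simp
  · show eW G ((u.hom.app (wo R A B)).app ⊤ (c • F.obj.mapTop (po R A B) m)) = _
    rw [Scheme.Modules.Hom.app_smul, ← StMod.Mod.mapTop_app]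
    refine (eW_smul G c (valMap u m)).trans ?_
    refine Eq.trans ?_ (congrArg _ (eW_smul F c m)).symm
    generalize gam2 R A B c = t
    induction t with
    | zero => simp [tm_zero_left]
    | add x y hx hy => simp only [map_add, tm_add_left, hx, hy]
    | tmul a b => simp [tm_tmul]

theorem isComodHom_valMap : Hoch.IsComodHom A ((valMap u).restrictScalars R) := by
  refine LinearMap.ext fun m => ?_
  show flipS (tr G (valMap u m)) = ((valMap u).restrictScalars R).rTensor A (flipS (tr F m))
  have e : tr G (valMap u m) = ((valMap u).restrictScalars R).lTensor A (tr F m) :=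
    (congrArg (eW G) (StMod.Mod.mapTop_app u.hom (qo R A B) m)).trans (eW_natural u _)
  rw [e]
  generalize tr F m = t
  induction t with
  | zero => simp
  | add x y hx hy => simp only [map_add, hx, hy]
  | tmul a n => simp [flipS_tmul]

end Groth.Agent.H14.QuotHopf
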