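import Groth.Agent.H14.QuotHopf.Cocycle
import Groth.Agent.H14.QuotHopf.Surj

/-!
The quasi-coherent module on the quotient given by a relative Hopf module, and exactness of invariants from
cohomological affineness.
-/

set_option autoImplicit false
set_option backward.isDefEq.respectTransparency false
set_option backward.isDefEq.respectTransparency.types false
set_option linter.style.haveILetI false

universe u

open CategoryTheory MonoidalCategory CartesianMonoidalCategory MonObj AlgebraicGeometry TensorProduct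
open Algebra.TensorProduct (includeLeft includeRight)
open StMod (sch bmap fibCat etaOf)
open AlgSt (QuotObj QuotSt ofSch)
open AlgSp (yon)
open CoactBr
open Groth.Agent.Lib.QuotSt
open Groth.Agent.H14.QuotGood
open Groth.Agent.H14.ModDesc
open Groth.Agent.H14.CohDesc (relSect_mapTop)
open Groth.Agent.H14.GenFam (Chart Ext isBC_mk sl_ext bc_induction bc_ext bc_extend bmap_hom_comp)

namespace Groth.Agent.H14.QuotHopf

variable {R A B : Type u} [CommRing R] [CommRing A] [CommRing B] [HopfAlgebra R A] [Module.Flat R A]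
  [Algebra R B] [HopfRep.Comod R A B] [GLin.IsCoactAlg R A B]
  {M : Type u} [AddCommGroup M] [Module R M] [Module B M] [IsScalarTower R B M]
  [HopfRep.Comod R A M] [TameAct.IsHopfMod R A B M]
  (h𝒳 : FibCat.IsFibGrpd (QS R A B).p)

variable (M) in
/-- The quasi-coherent module of a relative Hopf module. -/
noncomputable def GM : StMod.QCoh (QS R A B) := kExt (kapHM (M := M) h𝒳) h𝒳

omit [HopfRep.Comod R A M] [TameAct.IsHopfMod R A B M] in
theorem bijective_um_id : Function.Bijective (um R A B M (𝟙 (xo R A B))) := by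
  refine (isBC_mk (bmap (QS R A B) (𝟙 (xo R A B))).appTop.hom (HM B M)).bijective ?_
  rw [StMod.bmap_id, Scheme.Hom.id_appTop]
  exact Function.bijective_id

/-- The value of a section at the chart. -/
noncomputable def evX : Γ((GM M h𝒳).obj.obj (xo R A B), ⊤) ≃+ HM B M :=
  (AddEquiv.ofBijective (extEv (kapHM (M := M) h𝒳) h𝒳 (xo R A B) (𝟙 _))
    (bijective_extEv (kapHM (M := M) h𝒳) h𝒳 (xo R A B) (𝟙 _))).trans
  (AddEquiv.ofBijective (um R A B M (𝟙 (xo R A B))) bijective_um_id).symm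

theorem um_evX (s : Γ((GM M h𝒳).obj.obj (xo R A B), ⊤)) :
    um R A B M (𝟙 (xo R A B)) (evX h𝒳 s) = extEv (kapHM (M := M) h𝒳) h𝒳 (xo R A B) (𝟙 _) s :=
  (AddEquiv.ofBijective (um R A B M (𝟙 (xo R A B))) bijective_um_id).apply_symm_apply _

theorem evX_smul (r : Γ(sch (QS R A B) (xo R A B), ⊤)) (s : Γ((GM M h𝒳).obj.obj (xo R A B), ⊤)) :
    evX h𝒳 (r • s) = r • evX h𝒳 s := by
  apply (bijective_um_id (R := R) (A := A) (B := B) (M := M)).injective
  rw [um_evX]
  refine (extEv_smul (kapHM (M := M) h𝒳) h𝒳 (xo R A B) (𝟙 _) r s).trans ?_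
  refine (congrArg (fun k => r • k) (um_evX h𝒳 s).symm).trans ?_
  exact kUnit_id_smul (R := R) (A := A) (B := B) (M := M) r (evX h𝒳 s)

/-- The value of a section at the action groupoid. -/
noncomputable def evW : Γ((GM M h𝒳).obj.obj (wo R A B), ⊤) ≃+ EM R A B M (po R A B) :=
  AddEquiv.ofBijective (extEv (kapHM (M := M) h𝒳) h𝒳 (wo R A B) (po R A B))
    (bijective_extEv (kapHM (M := M) h𝒳) h𝒳 (wo R A B) (po R A B))

theorem evW_smul (c : Γ(sch (QS R A B) (wo R A B), ⊤)) (s : Γ((GM M h𝒳).obj.obj (wo R A B), ⊤)) :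
    evW h𝒳 (c • s) = c • evW h𝒳 s :=
  extEv_smul (kapHM (M := M) h𝒳) h𝒳 (wo R A B) (po R A B) c s

theorem evW_mapTop (f : wo R A B ⟶ xo R A B) (s : Γ((GM M h𝒳).obj.obj (xo R A B), ⊤)) :
    evW h𝒳 ((GM M h𝒳).obj.mapTop f s) = kapv h𝒳 (po R A B) f (um R A B M f (evX h𝒳 s)) := by
  refine (extEv_mapTop (kapHM (M := M) h𝒳) h𝒳 f (𝟙 _) (po R A B) s).trans ?_
  show kapv h𝒳 (po R A B) (f ≫ 𝟙 _) (resK (C := QC R A B) f rfl
    (extEv (kapHM (M := M) h𝒳) h𝒳 (xo R A B) (𝟙 _) s)) = _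
  rw [← um_evX, resK_unit]
  have key : ∀ (g : wo R A B ⟶ xo R A B) (_ : g = f), kapv h𝒳 (po R A B) g (um R A B M g (evX h𝒳 s)) =
      kapv h𝒳 (po R A B) f (um R A B M f (evX h𝒳 s)) := fun g hg => by subst hg; rfl
  exact key _ (Category.comp_id f)

theorem evW_p (s : Γ((GM M h𝒳).obj.obj (xo R A B), ⊤)) :
    evW h𝒳 ((GM M h𝒳).obj.mapTop (po R A B) s) = um R A B M (po R A B) (evX h𝒳 s) :=
  (evW_mapTop h𝒳 _ s).trans (kapv_self h𝒳 _ _)

theorem evW_q (s : Γ((GM M h𝒳).obj.obj (xo R A B), ⊤)) :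
    evW h𝒳 ((GM M h𝒳).obj.mapTop (qo R A B) s) = th0 (evX h𝒳 s) := by
  rw [evW_mapTop, kapv_unit h𝒳 (𝟙 (wo R A B)) (Category.id_comp _) (Category.id_comp _), resK_id]

theorem mem_fixedPts_evX (s : Γ((GM M h𝒳).obj.obj (xo R A B), ⊤)) :
    evX h𝒳 s ∈ HopfRep.fixedPts R A (HM B M) ↔
      (GM M h𝒳).obj.mapTop (po R A B) s = (GM M h𝒳).obj.mapTop (qo R A B) s := by
  rw [← (evW h𝒳).injective.eq_iff, evW_p, evW_q, ← eE.injective.eq_iff, eE_p, eE_th0, mem_fixedPts_iff_coleft,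
    eq_comm]

variable {N : Type u} [AddCommGroup N] [Module R N] [Module B N] [IsScalarTower R B N]
  [HopfRep.Comod R A N] [TameAct.IsHopfMod R A B N]

set_option maxHeartbeats 2000000 in
/-- A comodule map gives a morphism of the quasi-coherent modules. -/
theorem exists_mapGM [Flat (sp R A).hom] (f : M →ₗ[B] N) (hf : Hoch.IsComodHom A (f.restrictScalars R)) :
    ∃ ψ : GM M h𝒳 ⟶ GM N h𝒳, ∀ s, evX h𝒳 ((ψ.hom.app (xo R A B)).app ⊤ s) = f (evX h𝒳 s) := by
  let f' : HM B M →ₗ[B] HM B N := f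
  let hx : Γ((GM M h𝒳).obj.obj (xo R A B), ⊤) →ₗ[Γ(sch (QS R A B) (xo R A B), ⊤)]
      Γ((GM N h𝒳).obj.obj (xo R A B), ⊤) :=
    { toFun := fun s => (evX h𝒳).symm (f' (evX h𝒳 s))
      map_add' := fun a b => by simp only [map_add]
      map_smul' := fun r s => (evX h𝒳).injective (by
        rw [AddEquiv.apply_symm_apply, evX_smul, RingHom.id_apply, evX_smul, AddEquiv.apply_symm_apply]
        exact f'.map_smul (gam R B r) _) }
  obtain ⟨Hp, hHp⟩ := bc_extend (isBC_mk (bmap (QS R A B) (po R A B)).appTop.hom (HM B M))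
    ((um R A B N (po R A B)).comp f'.toAddMonoidHom) (fun r m => by
      show um R A B N (po R A B) (f' (r • m)) = _
      refine (congrArg (um R A B N (po R A B)) (f'.map_smul (gam R B r) m)).trans ?_
      exact (isBC_mk (bmap (QS R A B) (po R A B)).appTop.hom (HM B N)).sl r (f' m))
  let Hw : Γ((GM M h𝒳).obj.obj (wo R A B), ⊤) →ₗ[Γ(sch (QS R A B) (wo R A B), ⊤)]
      Γ((GM N h𝒳).obj.obj (wo R A B), ⊤) :=
    { toFun := fun s => (evW h𝒳).symm (Hp (evW h𝒳 s))
      map_add' := fun a b => by simp only [map_add]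
      map_smul' := fun r s => (evW h𝒳).injective (by
        rw [AddEquiv.apply_symm_apply, evW_smul, map_smul, RingHom.id_apply, evW_smul, AddEquiv.apply_symm_apply]) }
  have hH : ∀ ξ : EM R A B M (po R A B), eE (Hp ξ) = (f'.restrictScalars R).lTensor A (eE ξ) := fun ξ => by
    refine bc_induction (isBC_mk (bmap (QS R A B) (po R A B)).appTop.hom (HM B M))
      (P := fun ξ => eE (Hp ξ) = (f'.restrictScalars R).lTensor A (eE ξ)) ?_
      (fun x y hx hy => by simp only [map_add, hx, hy]) (fun c m => ?_) ξ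
    · simp
    · show eE (Hp (c • um R A B M (po R A B) m)) = _
      rw [map_smul]
      refine (congrArg (fun k => eE (c • k)) (hHp m)).trans ?_
      refine (eE_smul c (f' m)).trans ?_
      refine Eq.trans ?_ (congrArg _ (eE_smul c m)).symm
      generalize gam2 R A B c = t
      induction t with
      | zero => simp [tm_zero_left]
      | add x y hx hy => simp only [map_add, tm_add_left, hx, hy]
      | tmul a b => simp [tm_tmul]
  refine (GenFam.Chart.exists_hom_of_linear h𝒳 (QC R A B) (GM M h𝒳) (GM N h𝒳) hx ⟨Hw, fun s => ⟨?_, ?_⟩⟩).elim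
    fun ψ hψ => ?_
  · apply (evW h𝒳).injective
    refine ((evW h𝒳).apply_symm_apply _).trans ?_
    refine (congrArg Hp (evW_p h𝒳 s)).trans ((hHp _).trans ?_)
    refine Eq.trans ?_ (evW_p h𝒳 (hx s)).symm
    exact congrArg (um R A B N (po R A B)) ((evX h𝒳).apply_symm_apply _).symm
  · apply (evW h𝒳).injective
    refine ((evW h𝒳).apply_symm_apply _).trans ?_
    refine (congrArg Hp (evW_q h𝒳 s)).trans ?_
    refine Eq.trans ?_ (evW_q h𝒳 (hx s)).symm
    apply eE.injective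
    rw [hH, eE_th0, eE_th0]
    refine Eq.trans ?_ (congrArg (coleft R A) ((evX h𝒳).apply_symm_apply _).symm)
    exact (coleft_natural (f := f'.restrictScalars R) hf _).symm
  · refine ⟨ObjectProperty.homMk ψ, fun s => ?_⟩
    refine (congrArg (evX h𝒳) (hψ s)).trans ?_
    exact (evX h𝒳).apply_symm_apply _

include h𝒳 in
/-- A cohomologically affine functor from the quotient to an affine scheme makes invariants exact. -/
theorem exact_of_isCohAffine {Y : Over (Spec (CommRingCat.of R))} [IsAffine Y.left]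
    (ρ : QS R A B ⥤ᵇ ofSch Y) (hρ : StMod.IsCohAffine ρ) (f : M →ₗ[B] N)
    (hf : Hoch.IsComodHom A (f.restrictScalars R)) (hsurj : Function.Surjective f) (n : N)
    (hn : n ∈ HopfRep.fixedPts R A N) : ∃ m ∈ HopfRep.fixedPts R A M, f m = n := by
  haveI : Flat (sp R A).hom := flat_sp
  obtain ⟨ψ, hψ⟩ := exists_mapGM (R := R) (A := A) (B := B) h𝒳 f hf
  have hψs : StMod.Mod.IsSurj ψ.hom := isSurj_of_chart (QC R A B) ψ fun t => by
    obtain ⟨m, hm⟩ := hsurj (evX h𝒳 t)
    refine ⟨(evX h𝒳).symm (show HM B M from m), (evX h𝒳).injective ?_⟩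
    refine (hψ _).trans ?_
    exact (congrArg f ((evX h𝒳).apply_symm_apply (show HM B M from m))).trans hm
  let E : AlgSp.EtOver ((yon (Spec (CommRingCat.of R))).obj Y) :=
    AlgSp.EtOver.mk ((yon (Spec (CommRingCat.of R))).map (𝟙 Y))
      ((AlgSp.repWith_yon_map_iff _ _).2 (inferInstanceAs (Etale (𝟙 Y.left))))
  have hη : etaOf E = topObj Y := by
    show (⟨Y, (AlgSp.J _).uliftYonedaEquiv ((yon (Spec (CommRingCat.of R))).map (𝟙 Y))⟩ : (ofSch Y).obj) = ⟨Y, ⟨𝟙 Y⟩⟩
    refine congrArg (fun k => (⟨Y, k⟩ : (ofSch Y).obj)) (ULift.ext _ _ ?_)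
    exact Category.id_comp (𝟙 Y)
  have key := hρ ψ hψs E ‹IsAffine Y.left›
  rw [hη] at key
  let z : Γ((GM N h𝒳).obj.obj (xo R A B), ⊤) := (evX h𝒳).symm (show HM B N from n)
  have hz : (GM N h𝒳).obj.mapTop (po R A B) z = (GM N h𝒳).obj.mapTop (qo R A B) z := by
    refine (mem_fixedPts_evX h𝒳 z).1 ?_
    rw [AddEquiv.apply_symm_apply]
    exact hn
  let C := fibChart ρ (QC R A B)
  obtain ⟨σ, hσ⟩ := exists_relSect_of_inv h𝒳 (GM N h𝒳) C z hz
  obtain ⟨s, hs⟩ := key σ
  let v : Γ((GM M h𝒳).obj.obj (xo R A B), ⊤) := s.1 C.x.left C.x.hom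
  refine ⟨evX h𝒳 v, (mem_fixedPts_evX h𝒳 v).2
    ((relSect_mapTop s C.p).trans (relSect_mapTop s C.q).symm), ?_⟩
  refine (hψ v).symm.trans ?_
  have e : (ψ.hom.app (xo R A B)).app ⊤ v = z :=
    (congrArg (fun t : (GM N h𝒳).obj.RelSect ρ (topObj Y) => t.1 C.x.left C.x.hom) hs).trans hσ
  exact (congrArg (evX h𝒳) e).trans ((evX h𝒳).apply_symm_apply _)

end Groth.Agent.H14.QuotHopf
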